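import Groth.Agent.Lib.BlowFree1.Near
import Groth.Agent.Lib.RG6.Dev.Fibre
import Groth.Agent.Lib.RGProj13.Flat
import Mathlib.RingTheory.LocalRing.Module

/-!
# The centre attached to a module on an affine chart
-/

set_option autoImplicit false
universe u

open TensorProduct

namespace GrothLib.BlowFree1

/-- Finitely presented near a prime generated by the base and flat over the base implies free. -/
theorem free_of_flat_of_map_eq {R B N : Type u} [CommRing R] [CommRing B] [IsLocalRing B] [Algebra R B]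
    [AddCommGroup N] [Module B N] [Module R N] [IsScalarTower R B N] [Module.FinitePresentation B N] [Module.Flat R N]
    (p : Ideal R) (hp : p.map (algebraMap R B) = IsLocalRing.maximalIdeal B) : Module.Free B N := by
  refine Module.free_of_maximalIdeal_rTensor_injective ?_
  let m := IsLocalRing.maximalIdeal B
  have hmem : ∀ r : p, algebraMap R B r.1 ∈ m := fun r => hp.le (Ideal.mem_map_of_mem _ r.2)
  let ι : p →ₗ[R] m :=
    { toFun := fun r => ⟨algebraMap R B r.1, hmem r⟩
      map_add' := fun a b => Subtype.ext (map_add _ _ _)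
      map_smul' := fun a b => Subtype.ext (by
        show algebraMap R B (a * b.1) = a • algebraMap R B b.1
        rw [map_mul, Algebra.smul_def]) }
  let ψ₀ : p →ₗ[R] N →ₗ[R] m ⊗[B] N :=
    ((TensorProduct.mk B m N).restrictScalars₁₂ R R).comp ι
  let ψ : p ⊗[R] N →ₗ[R] m ⊗[B] N := TensorProduct.lift ψ₀
  have hψ : ∀ (r : p) (x : N), ψ (r ⊗ₜ x) = (⟨algebraMap R B r.1, hmem r⟩ : m) ⊗ₜ[B] x := fun _ _ => rfl
  have hsurj : Function.Surjective ψ := by
    intro z
    induction z using TensorProduct.induction_on with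
    | zero => exact ⟨0, map_zero _⟩
    | add a b ha hb =>
      obtain ⟨a', rfl⟩ := ha
      obtain ⟨b', rfl⟩ := hb
      exact ⟨a' + b', map_add _ _ _⟩
    | tmul y x =>
      obtain ⟨y, hy⟩ := y
      have hy' : y ∈ p.map (algebraMap R B) := hp.ge hy
      induction hy' using Submodule.span_induction generalizing x with
      | mem z hz =>
        obtain ⟨r, hr, rfl⟩ := hz
        exact ⟨⟨r, hr⟩ ⊗ₜ x, hψ _ _⟩
      | zero => exact ⟨0, by rw [map_zero]; exact (TensorProduct.zero_tmul _ _).symm⟩
      | add a b ha hb iha ihb =>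
        obtain ⟨a', ha'⟩ := iha x (hp.le ha)
        obtain ⟨b', hb'⟩ := ihb x (hp.le hb)
        exact ⟨a' + b', by rw [map_add, ha', hb', ← TensorProduct.add_tmul]; rfl⟩
      | smul c a ha iha =>
        obtain ⟨a', ha'⟩ := iha (c • x) (hp.le ha)
        exact ⟨a', by rw [ha', TensorProduct.tmul_smul, TensorProduct.smul_tmul']; rfl⟩
  intro z w hzw
  obtain ⟨z, rfl⟩ := hsurj z
  obtain ⟨w, rfl⟩ := hsurj w
  have hcomp : ∀ t, TensorProduct.lid B N (m.subtype.rTensor N (ψ t)) = TensorProduct.lid R N (p.subtype.rTensor N t) := by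
    intro t
    induction t using TensorProduct.induction_on with
    | zero => simp only [map_zero]
    | add a b ha hb => simp only [map_add, ha, hb]
    | tmul r x =>
      rw [hψ, LinearMap.rTensor_tmul, LinearMap.rTensor_tmul, TensorProduct.lid_tmul, TensorProduct.lid_tmul]
      exact algebraMap_smul B r.1 x
  have h1 := congrArg (TensorProduct.lid B N) hzw
  rw [hcomp, hcomp] at h1
  rw [Module.Flat.rTensor_preserves_injective_linearMap (M := N) p.subtype Subtype.val_injective
    ((TensorProduct.lid R N).injective h1)]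

/-- A finitely presented cover which is an isomorphism off finitely many principal closed sets. -/
theorem exists_cover_of_finset {B M : Type u} [CommRing B] [AddCommGroup M] [Module B M] [Module.Finite B M]
    (T : Finset B)
    (hT : ∀ g ∈ T, ∃ (A N : Type u) (_ : CommRing A) (_ : Algebra B A) (_ : IsLocalization.Away g A)
      (_ : AddCommGroup N) (_ : Module A N) (_ : Module B N) (_ : IsScalarTower B A N)
      (l : M →ₗ[B] N), IsLocalizedModule (Submonoid.powers g) l ∧ Module.FinitePresentation A N) :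
    ∃ (M₀ : Type u) (_ : AddCommGroup M₀) (_ : Module B M₀) (_ : Module.FinitePresentation B M₀)
      (q : M₀ →ₗ[B] M), Function.Surjective q ∧ ∀ g ∈ T, ∀ y, q y = 0 → ∃ k : ℕ, g ^ k • y = 0 := by
  classical
  obtain ⟨n, x, hx⟩ := GrothLib.Fitting.exists_tuple B M
  let φ := Fintype.linearCombination B x
  have hφ : Function.Surjective φ := LinearMap.range_eq_top.1 (by rw [Fintype.range_linearCombination, hx])
  have key : ∀ g ∈ T, ∃ L : Submodule B (Fin n → B), L.FG ∧ L ≤ LinearMap.ker φ ∧
      ∀ z ∈ LinearMap.ker φ, ∃ k : ℕ, g ^ k • z ∈ L := by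
    intro g hg
    obtain ⟨A, N, _, _, _, _, _, _, _, l, hl, hN⟩ := hT g hg
    haveI := hl
    haveI := hN
    let S := Submonoid.powers g
    let f0 : (Fin n → B) →ₗ[B] A ⊗[B] (Fin n → B) := TensorProduct.mk B A (Fin n → B) 1
    haveI : IsLocalizedModule S f0 := (isLocalizedModule_iff_isBaseChange S A f0).2 (TensorProduct.isBaseChange B _ A)
    let φS : A ⊗[B] (Fin n → B) →ₗ[A] N :=
      LinearMap.extendScalarsOfIsLocalization S A (IsLocalizedModule.map S f0 l φ)
    obtain ⟨s, hs⟩ := Module.FinitePresentation.fg_ker φS (IsLocalizedModule.map_surjective S f0 l φ hφ)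
    have hlift : ∀ w ∈ s, ∃ z, φ z = 0 ∧ ∃ t : S, t • w = f0 z := by
      intro w hw
      have hw0 : φS w = 0 := LinearMap.mem_ker.1 (hs ▸ Submodule.subset_span hw)
      obtain ⟨⟨z, t⟩, hzt⟩ := IsLocalizedModule.surj S f0 w
      have h1 : l (φ z) = 0 := by
        rw [← IsLocalizedModule.map_apply S f0 l φ, ← hzt, Submonoid.smul_def, map_smul,
          show IsLocalizedModule.map S f0 l φ w = 0 from hw0, smul_zero]
      obtain ⟨v, hv⟩ := (IsLocalizedModule.eq_zero_iff S l).1 h1
      refine ⟨v • z, by rw [Submonoid.smul_def, map_smul]; exact hv, v * t, ?_⟩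
      simp only [Submonoid.smul_def, map_smul, Submonoid.coe_mul, mul_smul] at hzt ⊢
      rw [hzt]
    choose z hz0 t ht using hlift
    let W : Set (Fin n → B) := Set.range fun w : s => z w.1 w.2
    refine ⟨Submodule.span B W, Submodule.fg_span (Set.finite_range _),
      Submodule.span_le.2 (by rintro _ ⟨w, rfl⟩; exact hz0 _ _), fun v hv => ?_⟩
    have hv' : f0 v ∈ LinearMap.ker φS := by
      rw [LinearMap.mem_ker]
      show IsLocalizedModule.map S f0 l φ (f0 v) = 0
      rw [IsLocalizedModule.map_apply, LinearMap.mem_ker.1 hv, map_zero]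
    have hmem : f0 v ∈ Submodule.localized' A S f0 (Submodule.span B W) := by
      rw [← hs] at hv'
      refine Submodule.span_le.2 (fun w hw => ?_) hv'
      exact ⟨z w hw, Submodule.subset_span ⟨⟨w, hw⟩, rfl⟩, t w hw, IsLocalizedModule.mk'_eq_iff.2 (ht w hw).symm⟩
    obtain ⟨y, hy', u', hu⟩ := hmem
    rw [IsLocalizedModule.mk'_eq_iff, Submonoid.smul_def, ← map_smul] at hu
    obtain ⟨⟨_, k, rfl⟩, hw⟩ := (IsLocalizedModule.eq_iff_exists S f0).1 hu
    obtain ⟨k', hk'⟩ := u'.2
    refine ⟨k + k', ?_⟩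
    rw [pow_add, mul_smul, show g ^ k' = (u' : B) from hk']
    simp only [Submonoid.smul_def] at hw
    rw [← hw]
    exact Submodule.smul_mem _ _ hy'
  choose L hLfg hLle hL using key
  let L₀ : Submodule B (Fin n → B) := ⨆ g : T, L g.1 g.2
  have hle : L₀ ≤ LinearMap.ker φ := iSup_le fun g => hLle _ _
  refine ⟨(Fin n → B) ⧸ L₀, inferInstance, inferInstance,
    Module.finitePresentation_of_surjective _ L₀.mkQ_surjective
      (by rw [L₀.ker_mkQ]; exact Submodule.fg_iSup _ fun g => hLfg _ _),
    L₀.liftQ φ hle, fun y => ?_, fun g hg y hy => ?_⟩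
  · obtain ⟨z, rfl⟩ := hφ y
    exact ⟨L₀.mkQ z, rfl⟩
  · obtain ⟨z, rfl⟩ := L₀.mkQ_surjective y
    obtain ⟨k, hk⟩ := hL g hg z hy
    refine ⟨k, ?_⟩
    rw [Submodule.mkQ_apply, ← Submodule.Quotient.mk_smul, Submodule.Quotient.mk_eq_zero]
    exact le_iSup (fun g : T => L g.1 g.2) ⟨g, hg⟩ hk

set_option maxHeartbeats 1600000 in
/-- **The centre.** -/
theorem exists_centre {R B M : Type u} [CommRing R] [CommRing B] [Algebra R B] [Algebra.FinitePresentation R B]
    [Module.Flat R B] (hgi : FlatCA.GeomIntegralFibres R B)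
    [AddCommGroup M] [Module B M] [Module R M] [IsScalarTower R B M] [Module.Finite B M]
    (T : Finset R)
    (hfp : ∀ f ∈ T, ∃ (A N : Type u) (_ : CommRing A) (_ : Algebra B A) (_ : IsLocalization.Away (algebraMap R B f) A)
      (_ : AddCommGroup N) (_ : Module A N) (_ : Module B N) (_ : IsScalarTower B A N)
      (l : M →ₗ[B] N), IsLocalizedModule (Submonoid.powers (algebraMap R B f)) l ∧ Module.FinitePresentation A N)
    (hflat : ∀ (p : Ideal R) [p.IsPrime] [(p.map (algebraMap R B)).IsPrime], ∀ f ∈ T, f ∉ p →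
      Module.Flat R (LocalizedModule (p.map (algebraMap R B)).primeCompl M)) :
    ∃ I : Ideal R, I.FG ∧ I ≤ Ideal.span (T : Set R) ∧ Ideal.span (T : Set R) ≤ I.radical ∧
      ∀ (R' : Type u) [CommRing R'] [Algebra R R'] (e : R'), e ∈ nonZeroDivisors R' →
        ∀ O : Ideal R', I.map (algebraMap R R') * O = Ideal.span {e} → ∀ (p' : Ideal R') [p'.IsPrime],
          ∃ s : R', s ∉ p' ∧ ∀ (R'' : Type u) [CommRing R''] [Algebra R' R''] [Algebra R R''] [IsScalarTower R R' R''],
            algebraMap R' R'' e ∈ nonZeroDivisors R'' → IsUnit (algebraMap R' R'' s) →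
            ∀ (p : Ideal R'') [p.IsPrime] (B'' M'' : Type u) [CommRing B''] [Algebra B B''] [Algebra R'' B'']
              [Algebra R B''] [IsScalarTower R R'' B''] [IsScalarTower R B B''] [Algebra.IsPushout R R'' B B'']
              [AddCommGroup M''] [Module B'' M''] [Module B M''] [IsScalarTower B B'' M'']
              (l : M →ₗ[B] M''), IsBaseChange B'' l →
              ∃ (g : B'') (r : ℕ)
                (y : Fin r → M'' ⧸ FlatCA.powTorsion B'' (algebraMap R'' B'' (algebraMap R' R'' e)) M''),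
                g ∉ p.map (algebraMap R'' B'') ∧ (p.map (algebraMap R'' B'')).IsPrime ∧
                (p.map (algebraMap R'' B'')).comap (algebraMap R'' B'') = p ∧
                (∀ m : M'' ⧸ FlatCA.powTorsion B'' (algebraMap R'' B'' (algebraMap R' R'' e)) M'',
                  g • m ∈ Submodule.span B'' (Set.range y)) ∧
                ∀ z : Fin r → B'', ∑ i, z i • y i = 0 → ∀ i, ∃ k : ℕ, g ^ k * z i = 0 := by
  classical
  haveI : Module.Projective R B := RGProj13.projective_of_flat hgi
  have hprime : ∀ (p : Ideal R) [p.IsPrime], (p.map (algebraMap R B)).IsPrime := fun p _ => by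
    haveI := RG6.Dev.isDomain_fiber p hgi
    exact RG6.Dev.isPrime_map p
  let J : Ideal R := Ideal.span (T : Set R)
  have hJfg : J.FG := ⟨T, rfl⟩
  obtain ⟨M₀, _, _, _, π, hπ, hker⟩ := exists_cover_of_finset (T.image (algebraMap R B)) (M := M) (fun g hg => by
    obtain ⟨f, hf, rfl⟩ := Finset.mem_image.1 hg
    exact hfp f hf)
  obtain ⟨n, x, hx⟩ := GrothLib.Fitting.exists_tuple B M₀
  choose G hG using fun j => GrothLib.Fitting.ideal_fg (R := B) (M := M₀) j
  let c : ℕ → Ideal R := fun j => ⨆ h : G j, coeff (h : B)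
  have hcfg : ∀ j, (c j).FG := fun j => Submodule.fg_iSup _ fun h => coeff_fg (h : B)
  have hHc : ∀ j, Fitt.ideal B M₀ j ≤ (c j).map (algebraMap R B) := fun j => by
    rw [← hG j, Submodule.span_le]
    intro h hh
    exact Ideal.map_mono (le_iSup (fun h : G j => coeff (R := R) (h : B)) ⟨h, hh⟩) (mem_map_coeff h)
  have hn : c n = ⊤ := by
    by_contra hne
    obtain ⟨m, hm, hle⟩ := Ideal.exists_le_maximal _ hne
    refine (hprime m).ne_top (top_le_iff.1 ?_)
    rw [← GrothLib.Fitting.ideal_eq_top_of_le x hx (le_refl n)]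
    exact (hHc n).trans (Ideal.map_mono hle)
  -- the dichotomy over `D(J)`
  have hdich : ∀ (j : ℕ) (p : Ideal R) [p.IsPrime], ¬ J ≤ p → ¬ c j ≤ p ∨ ¬ (c j).annihilator ≤ p := by
    intro j p _ hJp
    by_contra hcon
    push Not at hcon
    obtain ⟨hcp, hann⟩ := hcon
    obtain ⟨f, hf, hfp'⟩ : ∃ f ∈ T, f ∉ p := by
      by_contra h
      push Not at h
      exact hJp (Ideal.span_le.2 h)
    haveI hq := hprime p
    let q := p.map (algebraMap R B)
    have hHq : Fitt.ideal B M₀ j ≤ q := (hHc j).trans (Ideal.map_mono hcp)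
    have hfq : algebraMap R B f ∉ q := by
      intro hmem
      refine hq.ne_top ((Ideal.eq_top_iff_one _).2 (mem_map_iff_coeff_le.2 ?_))
      rintro _ ⟨φ', rfl⟩
      have h1 := coeff_le_of_mem_map hmem (apply_mem_coeff _ φ')
      rw [Algebra.algebraMap_eq_smul_one, map_smul, smul_eq_mul] at h1
      exact (Ideal.IsPrime.mem_or_mem inferInstance h1).resolve_left hfp'
    let L := LocalizedModule.mkLinearMap q.primeCompl M
    let L₀ := LocalizedModule.mkLinearMap q.primeCompl M₀
    let Φ := IsLocalizedModule.map q.primeCompl L₀ L π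
    have hbij : Function.Bijective Φ := by
      refine ⟨?_, IsLocalizedModule.map_surjective _ L₀ L π hπ⟩
      rw [injective_iff_map_eq_zero]
      intro z hz
      obtain ⟨⟨m, s⟩, rfl⟩ := IsLocalizedModule.mk'_surjective q.primeCompl L₀ z
      rw [Function.uncurry_apply_pair, IsLocalizedModule.map_mk', IsLocalizedModule.mk'_eq_zero,
        IsLocalizedModule.eq_zero_iff q.primeCompl] at hz
      obtain ⟨⟨u, hu⟩, hum⟩ := hz
      rw [Submonoid.smul_def, ← map_smul] at hum
      obtain ⟨k, hk⟩ := hker _ (Finset.mem_image.2 ⟨f, hf, rfl⟩) _ hum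
      rw [Function.uncurry_apply_pair, IsLocalizedModule.mk'_eq_zero, IsLocalizedModule.eq_zero_iff q.primeCompl]
      exact ⟨⟨algebraMap R B f ^ k * u, mul_mem (pow_mem hfq k) hu⟩, by rw [Submonoid.smul_def, mul_smul]; exact hk⟩
    let Bq := Localization.AtPrime q
    haveI := hflat p f hf hfp'
    letI : Module R (LocalizedModule q.primeCompl M₀) := Module.compHom _ (algebraMap R Bq)
    haveI : IsScalarTower R Bq (LocalizedModule q.primeCompl M₀) := IsScalarTower.of_algebraMap_smul fun _ _ => rfl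
    let E : LocalizedModule q.primeCompl M₀ ≃ₗ[Bq] LocalizedModule q.primeCompl M :=
      LinearEquiv.ofBijective (LinearMap.extendScalarsOfIsLocalization q.primeCompl Bq Φ) hbij
    haveI : IsScalarTower R Bq (LocalizedModule q.primeCompl M) := IsScalarTower.of_algebraMap_smul fun a z => by
      rw [IsScalarTower.algebraMap_apply R B Bq, algebraMap_smul, algebraMap_smul]
    haveI : Module.Flat R (LocalizedModule q.primeCompl M₀) := Module.Flat.of_linearEquiv (E.restrictScalars R)
    haveI : Module.FinitePresentation Bq (LocalizedModule q.primeCompl M₀) :=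
      FinitePresentation.of_isBaseChange L₀ (IsLocalizedModule.isBaseChange q.primeCompl Bq L₀)
    haveI := free_of_flat_of_map_eq (B := Bq) (N := LocalizedModule q.primeCompl M₀) p (by
      rw [IsScalarTower.algebraMap_eq R B Bq, ← Ideal.map_map]
      exact Localization.AtPrime.map_eq_maximalIdeal)
    have hval := GrothLib.Fitting.ideal_of_basis (Module.finBasis Bq (LocalizedModule q.primeCompl M₀)) j
    rw [GrothLib.Fitting.ideal_localized] at hval
    split_ifs at hval with hjr
    · rw [GrothLib.Fitting.map_eq_top_iff q.primeCompl] at hval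
      obtain ⟨y, hy1, hy2⟩ := Set.not_disjoint_iff.1 hval
      exact hy1 (hHq hy2)
    · have hk : ∀ h : G j, ∃ t : R, t ∉ p ∧ t • (h : B) = 0 := fun h => by
        have h1 := Ideal.mem_map_of_mem (algebraMap B Bq) (show (h : B) ∈ Fitt.ideal B M₀ j by
          rw [← hG j]; exact Ideal.subset_span h.2)
        rw [hval, Ideal.mem_bot, IsLocalization.map_eq_zero_iff q.primeCompl] at h1
        obtain ⟨⟨u, hu⟩, huh⟩ := h1
        exact exists_notMem_smul_eq_zero p (h : B) u hu huh
      choose t ht hth using hk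
      refine (mul_mem (s := p.primeCompl) (one_mem _) (prod_mem fun h (_ : h ∈ Finset.univ) => ht h) : _) (hann ?_)
      rw [one_mul, Submodule.mem_annihilator]
      intro z hz
      induction hz using Submodule.iSup_induction' with
      | mem h z hz =>
        obtain ⟨φ', rfl⟩ := hz
        show (∏ i, t i) * φ' (h : B) = 0
        rw [← Finset.prod_erase_mul _ _ (Finset.mem_univ h), mul_assoc, ← smul_eq_mul (t h), ← map_smul, hth,
          map_zero, mul_zero]
      | zero => rw [smul_zero]
      | add a b _ _ ha hb => rw [smul_add, ha, hb, add_zero]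
  have hZ : ∀ j, ∃ Z : Ideal R, Z.FG ∧ c j * Z = ⊥ ∧ J ≤ (c j ⊔ Z).radical := by
    intro j
    have hrad : J ≤ (c j ⊔ (c j).annihilator).radical := by
      intro a ha
      rw [Ideal.radical_eq_sInf, Ideal.mem_sInf]
      rintro p ⟨hle, hp⟩
      by_contra hap
      rcases hdich j p (fun h => hap (h ha)) with h | h
      · exact h (le_sup_left.trans hle)
      · exact h (le_sup_right.trans hle)
    obtain ⟨N, hN⟩ := Ideal.exists_pow_le_of_le_radical_of_fg hrad hJfg
    obtain ⟨S, hS⟩ := Submodule.FG.pow hJfg N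
    have hdec : ∀ s : S, ∃ a ∈ c j, ∃ b ∈ (c j).annihilator, a + b = (s : R) := fun s =>
      Submodule.mem_sup.1 (hN (hS ▸ Submodule.subset_span s.2))
    choose a ha b hb hab using hdec
    refine ⟨Ideal.span (Set.range b), Submodule.fg_span (Set.finite_range b), ?_, ?_⟩
    · rw [eq_bot_iff]
      refine Ideal.mul_le.2 fun u hu v hv => ?_
      have hv' : v ∈ (c j).annihilator := Ideal.span_le.2 (by rintro _ ⟨s, rfl⟩; exact hb s) hv
      rw [Ideal.mem_bot, mul_comm]
      exact Submodule.mem_annihilator.1 hv' u hu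
    · intro z hz
      refine ⟨N, ?_⟩
      have h1 : z ^ N ∈ Submodule.span R (S : Set R) := hS.symm ▸ Ideal.pow_mem_pow hz N
      refine Submodule.span_le.2 (fun s hs => ?_) h1
      rw [SetLike.mem_coe, show s = _ from (hab ⟨s, hs⟩).symm]
      exact add_mem (Submodule.mem_sup_left (ha _)) (Submodule.mem_sup_right (Ideal.subset_span ⟨_, rfl⟩))
  choose Z hZfg hcZ hJZ using hZ
  let F : ℕ → Ideal R := fun j => c j ⊔ Z j
  refine ⟨J * ∏ j ∈ Finset.range (n + 1), F j, hJfg.mul (Finset.prod_induction F Submodule.FG (fun _ _ ha hb => Ideal.FG.mul ha hb)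
      ⟨{1}, by simp⟩ fun j _ => Submodule.FG.sup (hcfg j) (hZfg j)),
    Ideal.mul_le_left, ?_, ?_⟩
  · intro z hz
    rw [Ideal.radical_mul]
    refine ⟨Ideal.le_radical hz, ?_⟩
    induction Finset.range (n + 1) using Finset.induction with
    | empty => rw [Finset.prod_empty, Ideal.one_eq_top, Ideal.radical_top]; trivial
    | insert i s his ih => rw [Finset.prod_insert his, Ideal.radical_mul]; exact ⟨hJZ i hz, ih⟩
  intro R' _ _ e he O hO p' _
  have hfac : ∀ j ∈ Finset.range (n + 1), ∃ O' : Ideal R', (F j).map (algebraMap R R') * O' = Ideal.span {e} := by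
    intro j hj
    refine ⟨(∏ i ∈ (Finset.range (n + 1)).erase j, F i).map (algebraMap R R') * (J.map (algebraMap R R') * O), ?_⟩
    rw [← hO, Ideal.map_mul, ← Finset.mul_prod_erase _ _ hj, Ideal.map_mul]
    ring
  have hgood : ∀ j : Fin (n + 1), ∃ s : R', s ∉ p' ∧ ∀ (R'' : Type u) [CommRing R''] [Algebra R' R'']
      [Algebra R R''] [IsScalarTower R R' R''], algebraMap R' R'' e ∈ nonZeroDivisors R'' →
      IsUnit (algebraMap R' R'' s) → Good (c j) R'' (algebraMap R' R'' e) := fun j => by
    obtain ⟨O', hO'⟩ := hfac j (Finset.mem_range.2 j.2)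
    exact exists_good (c j) (Z j) (hcZ j) O' e he hO' p'
  choose s hs hgood using hgood
  refine ⟨∏ j, s j, prod_mem (S := p'.primeCompl) fun j _ => hs j, ?_⟩
  intro R'' _ _ _ _ he'' hunit p _ B'' M'' _ _ _ _ _ _ _ _ _ _ _ l hl
  haveI : Module.Flat R'' B'' :=
    Module.Flat.isBaseChange R R'' B B'' (f := (IsScalarTower.toAlgHom R B B'').toLinearMap) Algebra.IsPushout.out
  have h' : FlatCA.GeomIntegralFibres R'' B'' := by
    have sq := AlgebraicGeometry.isPullback_SpecMap_of_isPushout _ _ _ _
      (haveI : Algebra.IsPushout R B R'' B'' := Algebra.IsPushout.symm inferInstance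
       CommRingCat.isPushout_of_isPushout R B R'' B'')
    exact CategoryTheory.MorphismProperty.of_isPullback (P := @AlgebraicGeometry.GeometricallyIntegral) sq hgi
  haveI hpB : (p.map (algebraMap R'' B'')).IsPrime := by
    haveI := RG6.Dev.isDomain_fiber p h'
    exact RG6.Dev.isPrime_map p
  have hpc : (p.map (algebraMap R'' B'')).comap (algebraMap R'' B'') = p := by
    haveI := RGProj13.faithfullyFlat_of_geomIntegralFibres h'
    exact Ideal.comap_map_eq_self_of_faithfullyFlat p
  set e₂ := algebraMap R' R'' e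
  set e₃ := algebraMap R'' B'' e₂
  have he₃ : e₃ ∈ nonZeroDivisors B'' := mem_nonZeroDivisors_iff_left.2 fun z hz => by
    have hinj : Function.Injective (LinearMap.mulLeft R'' e₂) := fun a b h => sub_eq_zero.1
      (mem_nonZeroDivisors_iff_left.1 he'' _ (by rw [mul_sub]; exact sub_eq_zero.2 h))
    have h2 : z ⊗ₜ[R''] (1 : R'') = 0 := Module.Flat.lTensor_preserves_injective_linearMap (M := B'')
      (LinearMap.mulLeft R'' e₂) hinj (by
        rw [LinearMap.lTensor_tmul, map_zero, LinearMap.mulLeft_apply, mul_one]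
        apply (TensorProduct.rid R'' B'').injective
        rw [TensorProduct.rid_tmul, map_zero, Algebra.smul_def, hz])
    have h3 := congrArg (TensorProduct.rid R'' B'') h2
    rwa [TensorProduct.rid_tmul, map_zero, one_smul] at h3
  -- replace `M` by the cover
  let q₁ : B'' ⊗[B] M₀ →ₗ[B''] M'' := hl.equiv.toLinearMap ∘ₗ π.baseChange B''
  have hq₁ : Function.Surjective q₁ := hl.equiv.surjective.comp (LinearMap.lTensor_surjective B'' hπ)
  have heJ : e₂ ∈ J.map (algebraMap R R'') := by
    rw [IsScalarTower.algebraMap_eq R R' R'', ← Ideal.map_map]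
    refine Ideal.mem_map_of_mem _ (Ideal.map_mono (Ideal.mul_le_left : J * ∏ j ∈ Finset.range (n + 1), F j ≤ J) ?_)
    exact Ideal.mul_le_left (hO.symm ▸ Ideal.mem_span_singleton_self e)
  have hker₁ : ∀ y, q₁ y = 0 → y ∈ FlatCA.powTorsion B'' e₃ (B'' ⊗[B] M₀) := by
    intro y hy
    have hy' : π.baseChange B'' y = 0 := hl.equiv.map_eq_zero_iff.1 hy
    obtain ⟨v, rfl⟩ := ((lTensor_exact B'' (LinearMap.exact_subtype_ker_map π) hπ) y).1 hy'
    clear hy hy'
    induction v using TensorProduct.induction_on with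
    | zero => rw [map_zero]; exact zero_mem _
    | add v w hv hw => rw [map_add]; exact add_mem hv hw
    | tmul t w =>
      let A := ((⊥ : Submodule B'' (B'' ⊗[B] M₀)).colon {(t ⊗ₜ[B] (w : M₀) : B'' ⊗[B] M₀)})
      have hle : (J.map (algebraMap R R'')).map (algebraMap R'' B'') ≤ A.radical := by
        rw [Ideal.map_map, ← IsScalarTower.algebraMap_eq, Ideal.map_le_iff_le_comap, Ideal.span_le]
        intro f hf
        obtain ⟨k, hk⟩ := hker _ (Finset.mem_image.2 ⟨f, hf, rfl⟩) w.1 w.2
        rw [SetLike.mem_coe, Ideal.mem_comap]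
        refine ⟨k, Submodule.mem_colon_singleton.2 ?_⟩
        rw [Submodule.mem_bot, IsScalarTower.algebraMap_apply R B B'', ← map_pow, algebraMap_smul,
          ← TensorProduct.tmul_smul, hk, TensorProduct.tmul_zero]
      obtain ⟨k, hk⟩ := hle (Ideal.mem_map_of_mem _ heJ)
      refine (GrothLib.Fitting.mem_powTorsion_iff _ _).2 ⟨k, ?_⟩
      rw [LinearMap.lTensor_tmul, Submodule.subtype_apply]
      simpa [A, Submodule.mem_colon_singleton] using hk
  obtain ⟨g, r, y, hg, hy, hli⟩ := exists_basis_near n c hHc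
    (fun j R₂ B₂ _ _ _ _ _ _ _ _ _ J₂ hJ₂ => by
      rw [Ideal.map_iSup, iSup_le_iff]
      rintro ⟨h, hh⟩
      exact map_coeff_le_of_mem_map (S' := B₂) h (hJ₂ (Ideal.mem_map_of_mem _ (hG j ▸ Ideal.subset_span hh))))
    hn (TensorProduct.mk B B'' M₀ 1) (TensorProduct.isBaseChange B M₀ B'') p e₂ he'' he₃ (fun j hj => by
      have := hgood ⟨j, by omega⟩ R'' he'' (isUnit_of_dvd_unit
        (map_dvd _ (Finset.dvd_prod_of_mem s (Finset.mem_univ _))) hunit)
      exact this)
  let Tt := FlatCA.powTorsion B'' e₃ M''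
  have hkereq : LinearMap.ker (Tt.mkQ ∘ₗ q₁) = FlatCA.powTorsion B'' e₃ (B'' ⊗[B] M₀) := by
    ext y
    rw [LinearMap.mem_ker, LinearMap.comp_apply, Submodule.mkQ_apply, Submodule.Quotient.mk_eq_zero]
    constructor
    · intro h
      obtain ⟨i, hi⟩ := (GrothLib.Fitting.mem_powTorsion_iff _ _).1 h
      obtain ⟨j, hj⟩ := (GrothLib.Fitting.mem_powTorsion_iff _ _).1 (hker₁ _ (by rw [map_smul]; exact hi))
      exact (GrothLib.Fitting.mem_powTorsion_iff _ _).2 ⟨j + i, by rw [pow_add, mul_smul]; exact hj⟩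
    · intro h
      obtain ⟨i, hi⟩ := (GrothLib.Fitting.mem_powTorsion_iff _ _).1 h
      exact (GrothLib.Fitting.mem_powTorsion_iff _ _).2 ⟨i, by rw [← map_smul, hi, map_zero]⟩
  let E := (Submodule.quotEquivOfEq _ _ hkereq.symm).trans
    (LinearMap.quotKerEquivOfSurjective (Tt.mkQ ∘ₗ q₁) (Tt.mkQ_surjective.comp hq₁))
  refine ⟨g, r, fun i => E (y i), hg, hpB, hpc, fun m => ?_, fun z hz i => hli z (E.injective ?_) i⟩
  · obtain ⟨m, rfl⟩ := E.surjective m
    rw [← map_smul, show Set.range (fun i => E (y i)) = E '' Set.range y from Set.range_comp E y]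
    exact (Submodule.map_span E.toLinearMap _) ▸ Submodule.mem_map_of_mem (hy m)
  · simp only [map_sum, map_smul, map_zero]
    exact hz

end GrothLib.BlowFree1
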