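import Groth.Agent.Lib.BlowFree1.Sheaf
import Groth.Agent.Lib.FlatFP.PullbackFlat
import Groth.Agent.Lib.FlatLimit.Stage
import Groth.Agent.Lib.StrictTr.Push

/-!
# The chart statement: a centre on an affine open of the base making a strict transform free near fibres
-/

set_option autoImplicit false
set_option backward.isDefEq.respectTransparency false
universe u

open CategoryTheory CategoryTheory.Limits AlgebraicGeometry Opposite TopologicalSpace GrothLib

namespace GrothLib.BlowFree1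

variable {X S : Scheme.{u}}

theorem flat_congr {R B M : Type u} [CommRing R] [CommRing B] [Algebra R B] [AddCommGroup M] [Module B M] [Module R M]
    [IsScalarTower R B M] {q q' : Ideal B} [q.IsPrime] [q'.IsPrime] (h : q = q')
    (hq : Module.Flat R (LocalizedModule q.primeCompl M)) : Module.Flat R (LocalizedModule q'.primeCompl M) := by
  subst h
  exact hq

set_option maxHeartbeats 3200000 in
/-- **The chart statement.** -/
theorem exists_ideal_chart [CompactSpace S] [QuasiSeparatedSpace S] (f : X ⟶ S) [IsAffineHom f]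
    [LocallyOfFinitePresentation f] [Flat f] [GeometricallyIntegral f] (U : S.Opens) (hU : IsCompact (U : Set S))
    (F : X.Modules) [F.IsQuasicoherent] (hft : CohB1.IsFT F)
    (hfpU : CohB1.IsFP ((Scheme.Modules.pullback (f ⁻¹ᵁ U).ι).obj F))
    (hflU : ∀ x : X, f.base x ∈ U → closure ({f.asFiber x} : Set (f.fiber (f.base x))) = Set.univ →
      FlatMod.IsFlatOverAt f F x) (W : S.affineOpens) :
    ∃ J : S.IdealSheafData, BlowUp.IsAdmissibleFor U J ∧
      ∀ (P : S.IdealSheafData) (Q : Ideal Γ(S, W.1)), P.ideal W = J.ideal W * Q →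
        ∀ {S' X' : Scheme.{u}} (b : S' ⟶ S) (p₁ : X' ⟶ X) (p₂ : X' ⟶ S'), IsPullback p₁ p₂ f b →
          BlowUp.IsEffCartierIdeal (P.comap b) →
          ∀ (G : X'.Modules) (π : (Scheme.Modules.pullback p₁).obj F ⟶ G),
            BlowUp.IsStrictTransform p₁ (P.comap f) F G π → ∀ s' : S', b s' ∈ W.1 →
              ∃ (x' : X') (D : X'.Opens) (n : ℕ), p₂ x' = s' ∧ x' ∈ D ∧
                Nonempty (G.restrict D.ι ≅ FlatMod.freeMod D.toScheme n) := by
  classical
  let XW := f ⁻¹ᵁ W.1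
  have hXW : IsAffineOpen XW := W.2.preimage f
  letI : Algebra Γ(S, W.1) Γ(X, XW) := (f.appLE W.1 XW le_rfl).hom.toAlgebra
  letI : Module Γ(S, W.1) Γ(F, XW) := Module.compHom _ (f.appLE W.1 XW le_rfl).hom
  haveI : IsScalarTower Γ(S, W.1) Γ(X, XW) Γ(F, XW) := IsScalarTower.of_algebraMap_smul fun _ _ => rfl
  haveI : Algebra.FinitePresentation Γ(S, W.1) Γ(X, XW) := RingHom.finitePresentation_algebraMap.1
    (LocallyOfFinitePresentation.finitePresentation_appLE f W.2 hXW le_rfl)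
  haveI : Module.Flat Γ(S, W.1) Γ(X, XW) := RingHom.flat_algebraMap_iff.1 (Flat.flat_appLE f W.2 hXW le_rfl)
  haveI : Module.Finite Γ(X, XW) Γ(F, XW) := (QCoh.isFiniteType_iff_moduleFinite F).1 hft XW hXW
  have hgi : FlatCA.GeomIntegralFibres Γ(S, W.1) Γ(X, XW) := by
    refine MorphismProperty.of_isPullback (P := @GeometricallyIntegral)
      (f' := hXW.fromSpec) (f := W.2.fromSpec) ?_ ‹GeometricallyIntegral f›
    refine (IsOpenImmersion.isPullback (Spec.map (CommRingCat.ofHom (algebraMap Γ(S, W.1) Γ(X, XW)))) hXW.fromSpec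
      W.2.fromSpec f ?_ ?_).flip
    · exact (IsAffineOpen.SpecMap_appLE_fromSpec f W.2 hXW le_rfl).symm
    · rw [IsAffineOpen.opensRange_fromSpec, IsAffineOpen.opensRange_fromSpec]
  haveI := RGProj13.faithfullyFlat_of_geomIntegralFibres hgi
  obtain ⟨T, hTU, hTcov⟩ := exists_finset_basicOpen W.2 U (by
    rw [Opens.coe_inf]
    exact QuasiSeparatedSpace.inter_isCompact _ _ U.2 hU W.1.2 W.2.isCompact)
  obtain ⟨I, hIfg, hIT, hTI, hI⟩ := exists_centre hgi T (M := Γ(F, XW)) (fun a ha => by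
    refine exists_fp_localization F (f ⁻¹ᵁ U) hfpU hXW (algebraMap Γ(S, W.1) Γ(X, XW) a) ?_
    show X.basicOpen ((f.appLE W.1 XW le_rfl) a) ≤ f ⁻¹ᵁ U
    rw [Scheme.basicOpen_appLE]
    exact inf_le_right.trans (f.preimage_mono (hTU a ha)))
    (fun p hp hpB a ha hap => by
      obtain ⟨x, hx, hxp⟩ := AssPts.exists_point hXW _ hpB
      have hfx : WeakAss.primeAt (f x) (show f x ∈ W.1 from hx) = p := by
        rw [← AssPts.comap_primeAt f le_rfl hx, hxp]
        exact Ideal.comap_map_eq_self_of_faithfullyFlat p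
      have hxU : f x ∈ U := hTU a ha ((Scheme.mem_basicOpen _ _ _ (show f x ∈ W.1 from hx)).2 (by
        by_contra hu
        exact hap (hfx ▸ (IsLocalRing.mem_maximalIdeal _).2 hu)))
      have hfl := hflU x hxU (Set.eq_univ_of_forall fun z => by
        rw [← specializes_iff_mem_closure, ← (f.fiberι (f x)).isEmbedding.isInducing.specializes_iff,
          Scheme.Hom.fiberι_asFiber]
        have hz : f (f.fiberι (f x) z) = f x := Set.mem_singleton_iff.1
          (f.range_fiberι (f x) ▸ Set.mem_range_self z : f.fiberι (f x) z ∈ f ⁻¹' {f x})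
        have hzW : f.fiberι (f x) z ∈ XW := show f (f.fiberι (f x) z) ∈ W.1 from hz.symm ▸ hx
        rw [AssPts.specializes_iff hXW hx hzW, hxp, Ideal.map_le_iff_le_comap]
        refine le_of_eq (hfx.symm.trans ?_)
        refine (?_ : _ = WeakAss.primeAt (f (f.fiberι (f x) z)) (show _ ∈ W.1 from hzW)).trans
          (AssPts.comap_primeAt f le_rfl hzW).symm
        congr 1
        exact hz.symm)
      have h := (FlatFP.isFlatOverAt_iff_of_isLocalizedModule f F W.2 le_rfl hx rfl (by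
        obtain ⟨g, hg, -⟩ := FlatFP.isLocalizedModule_germ F hXW hx
        exact ⟨g, hg⟩)).1 hfl
      exact flat_congr hxp h)
  obtain ⟨J, hJ, hJW⟩ := exists_admissible_of_ideal U hU W I hIfg T hTcov hTI
  refine ⟨J, hJ, fun P Q hPQ {S' X'} b p₁ p₂ sq hP G π hG s' hs' => ?_⟩
  -- an affine chart of the blow-up
  obtain ⟨V₀, hsV₀, e₀, he₀, hV₀⟩ := hP s'
  obtain ⟨t, ht, hst⟩ := V₀.2.exists_basicOpen_le (V := b ⁻¹ᵁ W.1) ⟨s', hs'⟩ hsV₀
  let V : S'.affineOpens := S'.affineBasicOpen t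
  letI : Algebra Γ(S', V₀.1) Γ(S', V.1) := (S'.presheaf.map (homOfLE (S'.basicOpen_le t)).op).hom.toAlgebra
  haveI : IsLocalization.Away t Γ(S', V.1) := V₀.2.isLocalization_basicOpen t
  let e : Γ(S', V.1) := algebraMap Γ(S', V₀.1) Γ(S', V.1) e₀
  have he : e ∈ nonZeroDivisors Γ(S', V.1) :=
    (IsLocalization.toLocalizationMap (Submonoid.powers t) Γ(S', V.1)).map_nonZeroDivisors_le ⟨e₀, he₀, rfl⟩
  have hPV : (P.comap b).ideal V = Ideal.span {e} := by
    rw [← (P.comap b).map_ideal (U := V) (V := V₀) (S'.basicOpen_le t)]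
    refine (congrArg (Ideal.map _) hV₀).trans ?_
    rw [Ideal.map_span, Set.image_singleton]
    rfl
  letI : Algebra Γ(S, W.1) Γ(S', V.1) := (b.appLE W.1 V.1 ht).hom.toAlgebra
  obtain ⟨σ, hσ, hnear⟩ := hI Γ(S', V.1) e he (Q.map (algebraMap Γ(S, W.1) Γ(S', V.1))) (by
    rw [← Ideal.map_mul, ← hJW, ← hPQ, ← hPV]
    exact (GrothLib.BlowUp.ideal_comap_eq_map P b W V ht).symm) (WeakAss.primeAt s' hst)
  -- shrink to the basic open of `σ`
  let D : S'.affineOpens := S'.affineBasicOpen σ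
  have hsD : s' ∈ D.1 := (Scheme.mem_basicOpen _ _ _ hst).2 (by
    by_contra hu
    exact hσ ((IsLocalRing.mem_maximalIdeal _).2 hu))
  have hDV : D.1 ≤ V.1 := S'.basicOpen_le σ
  letI : Algebra Γ(S', V.1) Γ(S', D.1) := (S'.presheaf.map (homOfLE hDV).op).hom.toAlgebra
  haveI : IsLocalization.Away σ Γ(S', D.1) := V.2.isLocalization_basicOpen σ
  letI : Algebra Γ(S, W.1) Γ(S', D.1) := (b.appLE W.1 D.1 (hDV.trans ht)).hom.toAlgebra
  haveI : IsScalarTower Γ(S, W.1) Γ(S', V.1) Γ(S', D.1) := IsScalarTower.of_algebraMap_eq fun a =>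
    congrArg (fun φ : Γ(S, W.1) ⟶ Γ(S', D.1) => φ a) (b.appLE_map ht (homOfLE hDV).op).symm
  have he' : algebraMap Γ(S', V.1) Γ(S', D.1) e ∈ nonZeroDivisors Γ(S', D.1) :=
    (IsLocalization.toLocalizationMap (Submonoid.powers σ) Γ(S', D.1)).map_nonZeroDivisors_le ⟨e, he, rfl⟩
  let O := p₁ ⁻¹ᵁ XW ⊓ p₂ ⁻¹ᵁ D.1
  have hO : IsAffineOpen O := FlatLimit.isAffineOpen_square sq (hDV.trans ht) le_rfl W.2 D.2 hXW
  letI : Algebra Γ(S', D.1) Γ(X', O) := (p₂.appLE D.1 O inf_le_right).hom.toAlgebra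
  letI : Algebra Γ(X, XW) Γ(X', O) := (p₁.appLE XW O inf_le_left).hom.toAlgebra
  letI : Algebra Γ(S, W.1) Γ(X', O) :=
    ((algebraMap Γ(S', D.1) Γ(X', O)).comp (algebraMap Γ(S, W.1) Γ(S', D.1))).toAlgebra
  haveI : IsScalarTower Γ(S, W.1) Γ(S', D.1) Γ(X', O) := IsScalarTower.of_algebraMap_eq' rfl
  haveI : IsScalarTower Γ(S, W.1) Γ(X, XW) Γ(X', O) := IsScalarTower.of_algebraMap_eq' (by
    show (p₂.appLE D.1 O inf_le_right).hom.comp (b.appLE W.1 D.1 (hDV.trans ht)).hom =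
      (p₁.appLE XW O inf_le_left).hom.comp (f.appLE W.1 XW le_rfl).hom
    rw [← CommRingCat.hom_comp, ← CommRingCat.hom_comp, Scheme.Hom.appLE_comp_appLE, Scheme.Hom.appLE_comp_appLE]
    congr 2
    exact sq.w.symm)
  haveI : Algebra.IsPushout Γ(S, W.1) Γ(S', D.1) Γ(X, XW) Γ(X', O) :=
    FlatLimit.isPushout_square sq (hDV.trans ht) le_rfl W.2 D.2 hXW rfl rfl rfl rfl
  let M' := (Scheme.Modules.pullback p₁).obj F
  letI : Module Γ(X, XW) Γ(M', O) := Module.compHom _ (p₁.appLE XW O inf_le_left).hom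
  haveI : IsScalarTower Γ(X, XW) Γ(X', O) Γ(M', O) := IsScalarTower.of_algebraMap_smul fun _ _ => rfl
  obtain ⟨l, hl⟩ := RelFPSch6.exists_isBaseChange_pullback p₁ F hXW hO inf_le_left rfl
  obtain ⟨g, r, y, hg, hprime, hcomap, hspan, hrel⟩ := hnear Γ(S', D.1) he'
    (IsLocalization.Away.algebraMap_isUnit σ) (WeakAss.primeAt s' hsD) Γ(X', O) Γ(M', O) l hl
  obtain ⟨x', hx', hxq⟩ := AssPts.exists_point hO _ hprime
  have hp₂ : p₂ x' = s' := by
    refine AssPts.primeAt_injective D.2 hx'.2 hsD ((AssPts.comap_primeAt p₂ inf_le_right hx').symm.trans ?_)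
    rw [hxq]
    exact hcomap
  -- the strict transform on `O`
  have hcom : (P.comap f).comap p₁ = (P.comap b).comap p₂ := by
    rw [← Scheme.IdealSheafData.comap_comp, ← Scheme.IdealSheafData.comap_comp, sq.w]
  have hE : StrictTr.PrincipalCover ((P.comap f).comap p₁) :=
    hcom ▸ StrictTr.principalCover_comap (StrictTr.principalCover_of_isEffCartier hP) p₂
  haveI := StrictTr.isQuasicoherent' hE hG
  let e'' := algebraMap Γ(S', D.1) Γ(X', O) (algebraMap Γ(S', V.1) Γ(S', D.1) e)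
  have hEO : ((P.comap f).comap p₁).ideal ⟨O, hO⟩ = Ideal.span {e''} := by
    rw [hcom, GrothLib.BlowUp.ideal_comap_eq_map (P.comap b) p₂ D ⟨O, hO⟩ inf_le_right,
      ← (P.comap b).map_ideal (U := D) (V := V) hDV]
    refine (congrArg (Ideal.map _) (congrArg (Ideal.map _) hPV)).trans ?_
    rw [Ideal.map_span, Set.image_singleton, Ideal.map_span, Set.image_singleton]
    rfl
  let φ := (FlatCA.powTorsion Γ(X', O) e'' Γ(M', O)).liftQ (QCoh.appLinear π O) (fun m hm => by
    obtain ⟨k, hk⟩ := (Fitting.mem_powTorsion_iff _ _).1 hm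
    exact LinearMap.mem_ker.2 ((StrictTr.app_eq_zero_iff hG (V := ⟨O, hO⟩) hEO m).2 ⟨k, hk⟩))
  have hφ : Function.Injective φ := by
    rw [injective_iff_map_eq_zero]
    intro z hz
    obtain ⟨m, rfl⟩ := Submodule.mkQ_surjective _ z
    obtain ⟨k, hk⟩ := (StrictTr.app_eq_zero_iff hG (V := ⟨O, hO⟩) hEO m).1 hz
    rw [Submodule.mkQ_apply, Submodule.Quotient.mk_eq_zero]
    exact (Fitting.mem_powTorsion_iff _ _).2 ⟨k, hk⟩
  refine ⟨x', X'.basicOpen g, r, hp₂, ?_, nonempty_iso_free G hO g (fun i => φ (y i)) (fun m => ?_)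
    fun z hz => hrel z (hφ (by rw [map_sum, map_zero]; simpa only [map_smul] using hz))⟩
  · refine (Scheme.mem_basicOpen _ _ _ hx').2 ?_
    by_contra hu
    exact hg (hxq ▸ (IsLocalRing.mem_maximalIdeal _).2 hu)
  · obtain ⟨m, rfl⟩ := StrictTr.app_surjective' hE hG ⟨O, hO⟩ m
    have h := Submodule.mem_map_of_mem (f := φ) (hspan (Submodule.Quotient.mk m))
    rw [Submodule.map_span, ← Set.range_comp, map_smul] at h
    exact h

end GrothLib.BlowFree1
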