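import Mathlib.RingTheory.Nakayama
import Mathlib.RingTheory.Finiteness.Ideal
import Mathlib.RingTheory.Flat.Stability
import Mathlib.Algebra.Module.Projective
import Mathlib.RingTheory.IsTensorProduct
import Mathlib.RingTheory.Localization.AtPrime.Basic

/-!
# Coefficient ideals of elements of a projective algebra
-/

set_option autoImplicit false
universe u

open TensorProduct

namespace GrothLib.BlowFree1

variable {R S : Type u} [CommRing R] [CommRing S] [Algebra R S]

/-- The ideal of the values of the linear functionals at `h`. -/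
def coeff (h : S) : Ideal R := LinearMap.range (Module.Dual.eval R S h)

theorem apply_mem_coeff (h : S) (φ : S →ₗ[R] R) : φ h ∈ coeff h := ⟨φ, rfl⟩

theorem coeff_le_of_mem_map {h : S} {J : Ideal R} (hh : h ∈ J.map (algebraMap R S)) : coeff h ≤ J := by
  rintro _ ⟨φ, rfl⟩
  have h1 : h ∈ J • (⊤ : Submodule R S) := by rw [Ideal.smul_top_eq_map]; exact hh
  show φ h ∈ J
  refine Submodule.smul_induction_on (p := fun z => φ z ∈ J) h1 (fun r hr z _ => ?_) fun a b ha hb => ?_
  · rw [map_smul, smul_eq_mul]; exact J.mul_mem_right _ hr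
  · rw [map_add]; exact add_mem ha hb

/-- Base change of the coefficient ideal. -/
theorem map_coeff_le_of_mem_map {R' S' : Type u} [CommRing R'] [CommRing S'] [Algebra R R'] [Algebra S S']
    [Algebra R' S'] [Algebra R S'] [IsScalarTower R R' S'] [IsScalarTower R S S'] [Algebra.IsPushout R R' S S']
    (h : S) {J : Ideal R'} (hh : algebraMap S S' h ∈ J.map (algebraMap R' S')) :
    (coeff h).map (algebraMap R R') ≤ J := by
  rw [Ideal.map_le_iff_le_comap]
  rintro _ ⟨φ, rfl⟩
  rw [Ideal.mem_comap]
  have hb : IsBaseChange R' (IsScalarTower.toAlgHom R S S').toLinearMap := Algebra.IsPushout.out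
  let φ' : S' →ₗ[R'] R' := hb.lift ((Algebra.linearMap R R').comp φ)
  have h1 : φ' (algebraMap S S' h) = algebraMap R R' (φ h) := hb.lift_eq _ h
  show algebraMap R R' (φ h) ∈ J
  rw [← h1]
  exact coeff_le_of_mem_map hh (apply_mem_coeff _ φ')

variable [Module.Projective R S]

theorem exists_finite_coord (h : S) :
    ∃ (t : Finset S) (c : S → R), (∀ i, c i ∈ coeff h) ∧ coeff h = Ideal.span (c '' t) ∧ ∑ i ∈ t, c i • i = h := by
  obtain ⟨s, hs⟩ := Module.projective_def'.1 (inferInstance : Module.Projective R S)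
  have hsum : ∑ i ∈ (s h).support, s h i • i = h := by
    have := LinearMap.congr_fun hs h
    rwa [LinearMap.comp_apply, Finsupp.linearCombination_apply] at this
  have hmem : ∀ i, s h i ∈ coeff (R := R) h := fun i => apply_mem_coeff h ((Finsupp.lapply i).comp s)
  refine ⟨(s h).support, fun i => s h i, hmem, le_antisymm ?_ (Ideal.span_le.2 ?_), hsum⟩
  · rintro _ ⟨φ, rfl⟩
    show φ h ∈ _
    have h2 := congrArg φ hsum
    rw [map_sum] at h2
    rw [← h2]
    refine Submodule.sum_mem _ fun i hi => ?_
    rw [map_smul, smul_eq_mul]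
    exact Ideal.mul_mem_right _ _ (Ideal.subset_span ⟨i, hi, rfl⟩)
  · rintro _ ⟨i, _, rfl⟩
    exact hmem i

theorem coeff_fg (h : S) : (coeff (R := R) h).FG := by
  obtain ⟨t, c, -, hc, -⟩ := exists_finite_coord (R := R) h
  exact hc ▸ Submodule.fg_span (t.finite_toSet.image c)

theorem mem_map_coeff (h : S) : h ∈ (coeff h).map (algebraMap R S) := by
  obtain ⟨t, c, hmem, -, hsum⟩ := exists_finite_coord (R := R) h
  have h3 : ∑ i ∈ t, c i • i ∈ (coeff h).map (algebraMap R S) := Submodule.sum_mem _ fun i _ => by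
    rw [Algebra.smul_def]
    exact Ideal.mul_mem_right _ _ (Ideal.mem_map_of_mem _ (hmem i))
  rwa [hsum] at h3

theorem mem_map_iff_coeff_le {h : S} {J : Ideal R} : h ∈ J.map (algebraMap R S) ↔ coeff h ≤ J :=
  ⟨coeff_le_of_mem_map, fun hJ => Ideal.map_mono hJ (mem_map_coeff h)⟩

set_option maxHeartbeats 800000 in
/-- If `h` is killed by an element outside a prime `pS`, then `h` is killed by an element outside `p`. -/
theorem exists_notMem_smul_eq_zero (p : Ideal R) [p.IsPrime] [(p.map (algebraMap R S)).IsPrime] (h u : S)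
    (hu : u ∉ p.map (algebraMap R S)) (h0 : u * h = 0) : ∃ t : R, t ∉ p ∧ t • h = 0 := by
  classical
  set c : Ideal R := coeff h with hc
  have key : ∀ (n : ℕ) (T : Finset R), T.card ≤ n → (↑T : Set R) ⊆ c → ∀ s0 : R, s0 ∉ p →
      (∀ x ∈ c, s0 * x ∈ Ideal.span (T : Set R)) → ∃ s : R, s ∉ p ∧ ∀ x ∈ c, s * x ∈ p * c := by
    intro n
    induction n with
    | zero =>
      intro T hT _ s0 hs0 hspan
      rw [Finset.card_eq_zero.1 (Nat.le_zero.1 hT), Finset.coe_empty, Ideal.span_empty] at hspan
      exact ⟨s0, hs0, fun x hx => by rw [Ideal.mem_bot.1 (hspan x hx)]; exact zero_mem _⟩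
    | succ n ih =>
      intro T hT hTc s0 hs0 hspan
      obtain ⟨t, cc, hmem, -, hsum⟩ := exists_finite_coord (R := R) h
      choose a ha using fun j => Submodule.mem_span_finset.1 (hspan (cc j) (hmem j))
      let y : R → S := fun x => ∑ j ∈ t, a j x • j
      have hy : s0 • h = ∑ x ∈ T, x • y x := by
        conv_lhs => rw [← hsum, Finset.smul_sum]
        simp only [y, Finset.smul_sum]
        rw [Finset.sum_comm]
        refine Finset.sum_congr rfl fun j _ => ?_
        rw [smul_smul, ← (ha j).2, Finset.sum_smul]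
        exact Finset.sum_congr rfl fun x _ => by rw [smul_smul, smul_eq_mul, mul_comm]
      by_cases hall : ∀ x ∈ T, u * y x ∈ p.map (algebraMap R S)
      · refine ⟨s0, hs0, fun x hx => ?_⟩
        have hin : s0 • h ∈ (p * c).map (algebraMap R S) := by
          rw [hy]
          refine sum_mem fun x hx => ?_
          rw [Ideal.map_mul, Algebra.smul_def, mul_comm (p.map _)]
          exact Ideal.mul_mem_mul (Ideal.mem_map_of_mem _ (hTc hx))
            ((Ideal.IsPrime.mem_or_mem inferInstance (hall x hx)).resolve_left hu)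
        obtain ⟨φ, rfl⟩ := hx
        show s0 * φ h ∈ p * c
        rw [show s0 * φ h = φ (s0 • h) by rw [map_smul, smul_eq_mul]]
        exact coeff_le_of_mem_map hin (apply_mem_coeff _ φ)
      · push Not at hall
        obtain ⟨x₁, hx₁, hnot⟩ := hall
        rw [mem_map_iff_coeff_le, SetLike.not_le_iff_exists] at hnot
        obtain ⟨_, ⟨φ, rfl⟩, he⟩ := hnot
        change φ (u * y x₁) ∉ p at he
        set e := φ (u * y x₁) with he'
        have hrel : ∑ x ∈ T, x * φ (u * y x) = 0 := by
          have h1 : φ (u * (s0 • h)) = 0 := by rw [mul_smul_comm, h0, smul_zero, map_zero]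
          rw [hy, Finset.mul_sum, map_sum] at h1
          rw [← h1]
          exact Finset.sum_congr rfl fun x _ => by rw [mul_smul_comm, map_smul, smul_eq_mul]
        refine ih (T.erase x₁) (by rw [Finset.card_erase_of_mem hx₁]; omega)
          (fun x hx => hTc (Finset.mem_of_mem_erase hx)) (e * s0) (fun hm =>
            ((‹p.IsPrime›).mem_or_mem hm).elim he hs0) fun x hx => ?_
        rw [mul_assoc]
        have hsub : ∀ z ∈ T, e * z ∈ Ideal.span (↑(T.erase x₁) : Set R) := by
          intro z hz
          by_cases hzx : z = x₁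
          · subst hzx
            rw [← Finset.add_sum_erase T _ hz] at hrel
            rw [mul_comm, eq_neg_of_add_eq_zero_left hrel]
            exact neg_mem (sum_mem fun w hw => Ideal.mul_mem_right _ _ (Ideal.subset_span (Finset.mem_coe.2 hw)))
          · exact Ideal.mul_mem_left _ _ (Ideal.subset_span (Finset.mem_coe.2 (Finset.mem_erase.2 ⟨hzx, hz⟩)))
        obtain ⟨b, hb⟩ := Submodule.mem_span_finset.1 (hspan x hx)
        rw [← hb.2, Finset.mul_sum]
        refine sum_mem fun z hz => ?_
        rw [smul_eq_mul, mul_left_comm]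
        exact Ideal.mul_mem_left _ _ (hsub z hz)
  obtain ⟨T, hT⟩ := coeff_fg (R := R) h
  obtain ⟨s, hs, hsc⟩ := key T.card T le_rfl (fun x hx => by show x ∈ c; rw [hc, ← hT]; exact Ideal.subset_span hx) 1
    (fun h1 => Ideal.IsPrime.ne_top ‹_› ((Ideal.eq_top_iff_one _).2 h1))
    (fun x hx => by rw [one_mul]; exact (hT.symm ▸ hx : x ∈ Ideal.span (T : Set R)))
  let A := Localization.AtPrime p
  have hzero : c.map (algebraMap R A) = ⊥ := by
    refine Submodule.eq_bot_of_le_smul_of_le_jacobson_bot (IsLocalRing.maximalIdeal A) _ (Ideal.FG.map (coeff_fg h) (algebraMap R A)) ?_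
      (IsLocalRing.jacobson_eq_maximalIdeal _ bot_ne_top).ge
    rw [smul_eq_mul, Ideal.map_le_iff_le_comap]
    intro x hx
    have h2 := Ideal.mem_map_of_mem (algebraMap R A) (hsc x hx)
    rw [Ideal.map_mul, Localization.AtPrime.map_eq_maximalIdeal, map_mul] at h2
    exact Ideal.mem_comap.2 ((Ideal.unit_mul_mem_iff_mem _ (IsLocalization.map_units A (⟨s, hs⟩ : p.primeCompl))).1 h2)
  obtain ⟨t, cc, hmem, -, hsum⟩ := exists_finite_coord (R := R) h
  have hk : ∀ i, ∃ w : p.primeCompl, (w : R) * cc i = 0 := fun i => by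
    have := Ideal.mem_map_of_mem (algebraMap R A) (hmem i)
    rw [← hc, hzero, Ideal.mem_bot, IsLocalization.map_eq_zero_iff p.primeCompl] at this
    exact this
  choose w hw using hk
  refine ⟨∏ i ∈ t, (w i : R), ?_, ?_⟩
  · exact (∏ i ∈ t, w i).2 |> fun h => by simpa using h
  · rw [← hsum, Finset.smul_sum]
    refine Finset.sum_eq_zero fun i hi => ?_
    rw [smul_smul, ← Finset.prod_erase_mul t _ hi, mul_assoc, hw, mul_zero, zero_smul]

end GrothLib.BlowFree1
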