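import Groth.Agent.Lib.Fitting.Flatify

/-!
# Fitting ideals near a prime where the top one does not vanish
-/

set_option autoImplicit false
open Function

namespace GrothLib.BlowFree1

universe u
open GrothLib.Fitting

variable {R : Type u} [CommRing R] {M : Type u} [AddCommGroup M] [Module R M]

/-- Freeness near a prime from the Fitting ideals. -/
theorem free_near_of_not_le [Module.Finite R M] (r : ℕ) (hlow : ∀ k, k < r → Fitt.ideal R M k = ⊥) (p : Ideal R) [p.IsPrime]
    (htop : ¬ Fitt.ideal R M r ≤ p) :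
    ∃ f : R, f ∉ p ∧ Module.Free (Localization.Away f) (LocalizedModule (Submonoid.powers f) M) ∧
      Module.rank (Localization.Away f) (LocalizedModule (Submonoid.powers f) M) = r := by
  obtain ⟨f, hf, g, hg⟩ := (not_le_iff_exists_span_away r p).1 htop
  have : Nontrivial (Localization.Away f) := by
    rw [← not_subsingleton_iff_nontrivial, IsLocalization.subsingleton_iff (M := Submonoid.powers f)]
    rintro ⟨j, hj⟩
    have h0 : f ^ j = 0 := hj
    exact hf (‹p.IsPrime›.mem_of_pow_mem j (h0 ▸ p.zero_mem))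
  have hli : LinearIndependent (Localization.Away f) g := by
    refine Fintype.linearIndependent_iff.2 fun z hz i => ?_
    have h1 := det_mem_minors (L := rel (R := Localization.Away f) g) (fun _ : Fin 1 => z) (fun _ => i)
      (fun _ => mem_rel.2 hz)
    have hr : 0 < r := i.pos
    rw [Matrix.det_fin_one, Matrix.of_apply] at h1
    rw [show 1 = r - (r - 1) by omega, ← ideal_eq_minors g hg, ideal_localized, hlow (r - 1) (by omega),
      Ideal.map_bot, Ideal.mem_bot] at h1
    exact h1
  let b := Module.Basis.mk hli (top_le_iff.2 hg)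
  exact ⟨f, hf, Module.Free.of_basis b, by rw [rank_eq_card_basis b, Fintype.card_fin]⟩

/-- The quotients of a Fitting ideal divisible by `a` lie in the radical of that of an `a`-torsion free quotient. -/
theorem quot_mem_radical [Module.Finite R M] {N : Type u} [AddCommGroup N] [Module R N] (k : ℕ) (q : M →ₗ[R] N)
    (hq : Surjective q) (a : R) (htors : ∀ m : M, a • m = 0 → q m = 0)
    (hle : ∀ d ∈ Fitt.ideal R M k, a ∣ d) {d : R} (hd : d ∈ Fitt.ideal R M k) :
    ∃ c ∈ (Fitt.ideal R N k).radical, a * c = d := by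
  obtain ⟨n, x, hx⟩ := exists_tuple R M
  rw [ideal_eq_minors x hx] at hle hd
  have hJ : minors (rel (R := R) x) (n - k) ≤ Ideal.span {a} * (Fitt.ideal R N k).radical := by
    refine minors_le_iff.2 fun z e hz => ?_
    by_cases he : Injective e
    swap
    · obtain ⟨i, j, hij, hne⟩ := Function.not_injective_iff.1 he
      rw [Matrix.det_zero_of_row_eq hne (by ext b; simp [hij])]
      exact zero_mem _
    obtain ⟨c, hc⟩ := hle _ (det_mem_minors z e hz)
    rw [hc, Ideal.mem_span_singleton_mul]
    exact ⟨c, ⟨_, pow_mem_ideal_of_minor x hx k q hq a 1 htors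
      (fun z' e' hz' => by rw [one_mul]; exact hle _ (det_mem_minors z' e' hz')) z e he hz c (by rw [one_mul, hc])⟩, rfl⟩
  exact Ideal.mem_span_singleton_mul.1 (hJ hd)

/-- A finitely presented cover which is an isomorphism off `V(f)`. -/
theorem exists_finitePresentation_cover [Module.Finite R M] (f : R)
    (hfp : Module.FinitePresentation (Localization.Away f) (LocalizedModule (Submonoid.powers f) M)) :
    ∃ (M₀ : Type u) (_ : AddCommGroup M₀) (_ : Module R M₀) (_ : Module.FinitePresentation R M₀)
      (q : M₀ →ₗ[R] M), Function.Surjective q ∧ ∀ y, q y = 0 → ∃ N : ℕ, f ^ N • y = 0 := by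
  classical
  obtain ⟨n, x, hx⟩ := exists_tuple R M
  let φ := Fintype.linearCombination R x
  have hφ : Function.Surjective φ := LinearMap.range_eq_top.1 (by rw [Fintype.range_linearCombination, hx])
  let S := Submonoid.powers f
  let f0 := LocalizedModule.mkLinearMap S (Fin n → R)
  let f1 := LocalizedModule.mkLinearMap S M
  haveI := hfp
  let φS : LocalizedModule S (Fin n → R) →ₗ[Localization.Away f] LocalizedModule S M :=
    LinearMap.extendScalarsOfIsLocalization S (Localization.Away f) (IsLocalizedModule.map S f0 f1 φ)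
  have : Module.Finite (Localization.Away f) (LocalizedModule S (Fin n → R)) :=
    Module.Finite.of_isLocalizedModule S f0
  obtain ⟨s, hs⟩ := Module.FinitePresentation.fg_ker φS (IsLocalizedModule.map_surjective S f0 f1 φ hφ)
  have hlift : ∀ w ∈ s, ∃ z, φ z = 0 ∧ ∃ t : S, t • w = f0 z := by
    intro w hw
    have hw0 : φS w = 0 := LinearMap.mem_ker.1 (hs ▸ Submodule.subset_span hw)
    obtain ⟨⟨z, t⟩, hzt⟩ := IsLocalizedModule.surj S f0 w
    have h1 : f1 (φ z) = 0 := by
      rw [← IsLocalizedModule.map_apply S f0 f1 φ, ← hzt, Submonoid.smul_def, map_smul,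
        show IsLocalizedModule.map S f0 f1 φ w = 0 from hw0, smul_zero]
    obtain ⟨v, hv⟩ := (IsLocalizedModule.eq_zero_iff S f1).1 h1
    refine ⟨v • z, by rw [Submonoid.smul_def, map_smul]; exact hv, v * t, ?_⟩
    simp only [Submonoid.smul_def, map_smul, Submonoid.coe_mul, mul_smul] at hzt ⊢
    rw [hzt]
  choose z hz0 t ht using hlift
  let W : Set (Fin n → R) := Set.range fun w : s => z w.1 w.2
  let L₀ : Submodule R (Fin n → R) := Submodule.span R W
  have hL₀le : L₀ ≤ LinearMap.ker φ := Submodule.span_le.2 (by rintro _ ⟨w, rfl⟩; exact hz0 _ _)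
  refine ⟨(Fin n → R) ⧸ L₀, inferInstance, inferInstance,
    Module.finitePresentation_of_surjective _ L₀.mkQ_surjective
      (by rw [L₀.ker_mkQ]; exact Submodule.fg_span (Set.finite_range _)),
    L₀.liftQ φ hL₀le, fun y => ?_, fun y hy => ?_⟩
  · obtain ⟨z, rfl⟩ := hφ y
    exact ⟨L₀.mkQ z, rfl⟩
  · obtain ⟨v, rfl⟩ := L₀.mkQ_surjective y
    have hv : φ v = 0 := hy
    have hv' : f0 v ∈ LinearMap.ker φS := by
      rw [LinearMap.mem_ker]
      show IsLocalizedModule.map S f0 f1 φ (f0 v) = 0
      rw [IsLocalizedModule.map_apply, hv, map_zero]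
    have hmem : f0 v ∈ Submodule.localized' (Localization.Away f) S f0 L₀ := by
      rw [← hs] at hv'
      refine Submodule.span_le.2 (fun w hw => ?_) hv'
      exact ⟨z w hw, Submodule.subset_span ⟨⟨w, hw⟩, rfl⟩, t w hw, IsLocalizedModule.mk'_eq_iff.2 (ht w hw).symm⟩
    obtain ⟨y, hy', u', hu⟩ := hmem
    rw [IsLocalizedModule.mk'_eq_iff, Submonoid.smul_def, ← map_smul] at hu
    obtain ⟨⟨_, k, rfl⟩, hw⟩ := (IsLocalizedModule.eq_iff_exists S f0).1 hu
    obtain ⟨k', hk'⟩ := u'.2
    refine ⟨k + k', ?_⟩
    rw [Submodule.mkQ_apply, ← Submodule.Quotient.mk_smul, Submodule.Quotient.mk_eq_zero,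
      pow_add, mul_smul, show f ^ k' = (u' : R) from hk']
    simp only [Submonoid.smul_def] at hw
    rw [← hw]
    exact Submodule.smul_mem _ _ hy'

end GrothLib.BlowFree1
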