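import Groth.Agent.Lib.BlowFree1.Content
import Groth.Agent.Lib.BlowFree1.Fitt

/-!
# Centres whose blow-up makes a strict transform free near the generic points of the fibres
-/

set_option autoImplicit false
universe u

open TensorProduct

namespace GrothLib.BlowFree1

open GrothLib.Fitting (ideal_transform_eq_bot ideal_baseChange ideal_congr ideal_localized)

/-- The dichotomy satisfied by a coefficient ideal after blowing up. -/
def Good {R : Type u} [CommRing R] (c : Ideal R) (R'' : Type u) [CommRing R''] [Algebra R R''] (e : R'') : Prop :=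
  c.map (algebraMap R R'') = ⊥ ∨ ∃ γ : R'', c.map (algebraMap R R'') = Ideal.span {γ} ∧ γ ∣ e

/-- Near a prime a product of ideals which is principal has principal factors. -/
theorem exists_factor {A : Type u} [CommRing A] (p : Ideal A) [p.IsPrime] (P Q : Ideal A) (e : A)
    (he : e ∈ nonZeroDivisors A) (h : P * Q = Ideal.span {e}) :
    ∃ x y u : A, x ∈ P ∧ y ∈ Q ∧ u ∉ p ∧ x * y = e * u ∧ ∀ z ∈ P, ∃ w, z * y = e * w ∧ u * z = x * w := by
  have hmem : ∀ x ∈ P, ∀ y ∈ Q, ∃ w, x * y = e * w := fun x hx y hy =>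
    Ideal.mem_span_singleton.1 (h ▸ Ideal.mul_mem_mul hx hy : x * y ∈ Ideal.span {e})
  have key : ∃ x ∈ P, ∃ y ∈ Q, ∃ u ∉ p, x * y = e * u := by
    by_contra hcon
    push Not at hcon
    have hle : P * Q ≤ Ideal.span {e} * p := by
      refine Ideal.mul_le.2 fun x hx y hy => ?_
      obtain ⟨w, hw⟩ := hmem x hx y hy
      rw [hw]
      refine Ideal.mul_mem_mul (Ideal.mem_span_singleton_self e) ?_
      by_contra hwp
      exact hcon x hx y hy w hwp hw
    rw [h] at hle
    obtain ⟨z, hz, hez⟩ := Ideal.mem_span_singleton_mul.1 (hle (Ideal.mem_span_singleton_self e))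
    have h1 : z = 1 := by
      refine sub_eq_zero.1 (mem_nonZeroDivisors_iff_left.1 he _ ?_)
      rw [mul_sub, hez, mul_one, sub_self]
    exact ‹p.IsPrime›.ne_top ((Ideal.eq_top_iff_one _).2 (h1 ▸ hz))
  obtain ⟨x, hx, y, hy, u, hu, hxy⟩ := key
  refine ⟨x, y, u, hx, hy, hu, hxy, fun z hz => ?_⟩
  obtain ⟨w, hw⟩ := hmem z hz y hy
  refine ⟨w, hw, sub_eq_zero.1 (mem_nonZeroDivisors_iff_left.1 he _ ?_)⟩
  rw [mul_sub, ← mul_assoc, ← hxy, ← mul_assoc]
  linear_combination x * hw

/-- Near any prime of the blow-up a coefficient ideal is zero or principal. -/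
theorem exists_good {R R' : Type u} [CommRing R] [CommRing R'] [Algebra R R'] (c Z : Ideal R) (hcZ : c * Z = ⊥)
    (O : Ideal R') (e : R') (he : e ∈ nonZeroDivisors R')
    (h : (c ⊔ Z).map (algebraMap R R') * O = Ideal.span {e}) (p : Ideal R') [p.IsPrime] :
    ∃ s : R', s ∉ p ∧ ∀ (R'' : Type u) [CommRing R''] [Algebra R' R''] [Algebra R R''] [IsScalarTower R R' R''],
      algebraMap R' R'' e ∈ nonZeroDivisors R'' → IsUnit (algebraMap R' R'' s) →
        Good c R'' (algebraMap R' R'' e) := by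
  obtain ⟨x, y, u, hx, hy, hu, hxy, hdiv⟩ := exists_factor p _ O e he h
  have hx' := hx
  rw [Ideal.map_sup, Submodule.mem_sup] at hx'
  obtain ⟨c₀, hc₀, z₀, hz₀, hsum⟩ := hx'
  obtain ⟨a, ha, -⟩ := hdiv c₀ (Ideal.map_mono le_sup_left hc₀)
  obtain ⟨b, hb, -⟩ := hdiv z₀ (Ideal.map_mono le_sup_right hz₀)
  have hab : a + b = u := by
    refine sub_eq_zero.1 (mem_nonZeroDivisors_iff_left.1 he _ ?_)
    rw [mul_sub, mul_add, ← ha, ← hb, ← add_mul, hsum, hxy, sub_self]
  have hcZ' : ∀ z ∈ c.map (algebraMap R R'), ∀ w ∈ Z.map (algebraMap R R'), z * w = 0 := fun z hz w hw => by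
    have h1 : z * w ∈ c.map (algebraMap R R') * Z.map (algebraMap R R') := Ideal.mul_mem_mul hz hw
    rwa [← Ideal.map_mul, hcZ, Ideal.map_bot, Ideal.mem_bot] at h1
  have hzero : ∀ {R'' : Type u} [CommRing R''] [Algebra R' R'']
      (_ : algebraMap R' R'' e ∈ nonZeroDivisors R'') (w t : R') (_ : IsUnit (algebraMap R' R'' t)),
      w * (e * t) = 0 → algebraMap R' R'' w = 0 := fun {R''} _ _ he'' w t ht h0 => by
    have h1 := congrArg (algebraMap R' R'') h0
    rw [map_mul, map_mul, map_zero, ← mul_assoc] at h1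
    exact mem_nonZeroDivisors_iff_right.1 he'' _ (ht.mul_left_eq_zero.1 h1)
  by_cases hap : a ∈ p
  · have hbp : b ∉ p := fun hb => hu (hab ▸ p.add_mem hap hb)
    refine ⟨b, hbp, fun R'' _ _ _ _ he'' hs => Or.inl ?_⟩
    rw [eq_bot_iff, IsScalarTower.algebraMap_eq R R' R'', ← Ideal.map_map, Ideal.map_le_iff_le_comap]
    intro w hw
    rw [Ideal.mem_comap, Ideal.mem_bot]
    refine hzero he'' w b hs ?_
    rw [← hb, ← mul_assoc, hcZ' w hw z₀ hz₀, zero_mul]
  · refine ⟨u * a, fun hm => (‹p.IsPrime›.mem_or_mem hm).elim hu hap, fun R'' _ _ _ _ he'' hs => Or.inr ?_⟩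
    rw [map_mul] at hs
    have hua : IsUnit (algebraMap R' R'' u) ∧ IsUnit (algebraMap R' R'' a) := IsUnit.mul_iff.1 hs
    have hZ : ∀ w ∈ Z.map (algebraMap R R'), algebraMap R' R'' w = 0 := fun w hw => by
      refine hzero he'' w a hua.2 ?_
      rw [← ha, ← mul_assoc, mul_comm w, hcZ' c₀ hc₀ w hw, zero_mul]
    refine ⟨algebraMap R' R'' x, ?_, ?_⟩
    · rw [IsScalarTower.algebraMap_eq R R' R'', ← Ideal.map_map]
      refine le_antisymm (Ideal.map_le_iff_le_comap.2 fun z hz => ?_)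
        ((Ideal.span_singleton_le_iff_mem _).2 ?_)
      · obtain ⟨w, -, hw⟩ := hdiv z (Ideal.map_mono le_sup_left hz)
        rw [Ideal.mem_comap, Ideal.mem_span_singleton]
        refine hua.1.dvd_mul_left.1 ⟨algebraMap R' R'' w, ?_⟩
        rw [← map_mul, hw, map_mul]
      · rw [← hsum, map_add, hZ z₀ hz₀, add_zero]
        exact Ideal.mem_map_of_mem _ hc₀
    · refine hua.1.dvd_mul_right.1 ⟨algebraMap R' R'' y, ?_⟩
      rw [← map_mul, ← map_mul, hxy]

set_option maxHeartbeats 1600000 in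
/-- The strict transform near the generic point of the fibre over a point of a good chart. -/
theorem exists_basis_near {R B M₀ : Type u} [CommRing R] [CommRing B] [Algebra R B] [Module.Projective R B]
    [AddCommGroup M₀] [Module B M₀] [Module.Finite B M₀] (n : ℕ) (c : ℕ → Ideal R)
    (hc : ∀ j, Fitt.ideal B M₀ j ≤ (c j).map (algebraMap R B))
    (hmin : ∀ j (R'' B'' : Type u) [CommRing R''] [CommRing B''] [Algebra R R''] [Algebra B B'']
      [Algebra R'' B''] [Algebra R B''] [IsScalarTower R R'' B''] [IsScalarTower R B B''] [Algebra.IsPushout R R'' B B'']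
      (J'' : Ideal R''),
      (Fitt.ideal B M₀ j).map (algebraMap B B'') ≤ J''.map (algebraMap R'' B'') → (c j).map (algebraMap R R'') ≤ J'')
    (hn : c n = ⊤)
    {R'' B'' M'' : Type u} [CommRing R''] [CommRing B''] [Algebra R R''] [Algebra B B''] [Algebra R'' B'']
    [Algebra R B''] [IsScalarTower R R'' B''] [IsScalarTower R B B''] [Algebra.IsPushout R R'' B B'']
    [AddCommGroup M''] [Module B'' M''] [Module B M''] [IsScalarTower B B'' M'']
    (l : M₀ →ₗ[B] M'') (hl : IsBaseChange B'' l) (p : Ideal R'') [p.IsPrime] [(p.map (algebraMap R'' B'')).IsPrime]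
    (e : R'') (he : e ∈ nonZeroDivisors R'') (he' : algebraMap R'' B'' e ∈ nonZeroDivisors B'')
    (hgood : ∀ j ≤ n, Good (c j) R'' e) :
    ∃ (g : B'') (r : ℕ) (y : Fin r → M'' ⧸ FlatCA.powTorsion B'' (algebraMap R'' B'' e) M''),
      g ∉ p.map (algebraMap R'' B'') ∧ (∀ m, g • m ∈ Submodule.span B'' (Set.range y)) ∧
      ∀ z : Fin r → B'', ∑ i, z i • y i = 0 → ∀ i, ∃ k : ℕ, g ^ k * z i = 0 := by
  classical
  haveI : Module.Finite B'' M'' := Module.Finite.equiv hl.equiv
  have hex : ∃ j, (c j).map (algebraMap R R'') ≠ ⊥ := ⟨n, by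
    rw [hn, Ideal.map_top]
    exact fun h => ‹p.IsPrime›.ne_top (top_le_iff.1 (h ▸ bot_le))⟩
  let r := Nat.find hex
  have hrn : r ≤ n := Nat.find_min' hex (by
    rw [hn, Ideal.map_top]
    exact fun h => ‹p.IsPrime›.ne_top (top_le_iff.1 (h ▸ bot_le)))
  have hr : (c r).map (algebraMap R R'') ≠ ⊥ := Nat.find_spec hex
  obtain ⟨γ, hγ, hγe⟩ := (hgood r hrn).resolve_left hr
  have hmap : ∀ j, Fitt.ideal B'' M'' j ≤ ((c j).map (algebraMap R R'')).map (algebraMap R'' B'') := fun j => by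
    rw [GrothLib.Fitting.ideal_of_isBaseChange B'' hl, Ideal.map_map, ← IsScalarTower.algebraMap_eq,
      IsScalarTower.algebraMap_eq R B B'', ← Ideal.map_map]
    exact Ideal.map_mono (hc j)
  set e'' := algebraMap R'' B'' e
  set N := M'' ⧸ FlatCA.powTorsion B'' e'' M''
  have hlow : ∀ j, j < r → Fitt.ideal B'' N j = ⊥ := fun j hj => by
    refine ideal_transform_eq_bot j e'' he' (eq_bot_iff.2 ?_)
    have hj0 : (c j).map (algebraMap R R'') = ⊥ := not_not.1 (Nat.find_min hex hj)
    exact (hmap j).trans (by rw [hj0, Ideal.map_bot])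
  have hdvd : ∀ d ∈ Fitt.ideal B'' M'' r, algebraMap R'' B'' γ ∣ d := fun d hd => by
    have h1 := hmap r hd
    rw [hγ, Ideal.map_span, Set.image_singleton] at h1
    exact Ideal.mem_span_singleton.1 h1
  have hγreg : ∀ x : R'', γ * x = 0 → x = 0 := fun x hx => by
    obtain ⟨δ, rfl⟩ := hγe
    exact mem_nonZeroDivisors_iff_left.1 he x (by rw [mul_right_comm, hx, zero_mul])
  have htop : ¬ Fitt.ideal B'' N r ≤ p.map (algebraMap R'' B'') := by
    intro hle
    have hle2 : (c r).map (algebraMap R R'') ≤ Ideal.span {γ} * p := by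
      refine hmin r R'' B'' _ ?_
      rw [← GrothLib.Fitting.ideal_of_isBaseChange B'' hl]
      intro d hd
      obtain ⟨x, hx, hxd⟩ := quot_mem_radical r (FlatCA.powTorsion B'' e'' M'').mkQ
        (Submodule.mkQ_surjective _) (algebraMap R'' B'' γ) (fun m hm => (Submodule.Quotient.mk_eq_zero _).2
          ((GrothLib.Fitting.mem_powTorsion_iff e'' m).2 ⟨1, by
            obtain ⟨δ, hδ⟩ := hγe
            rw [pow_one, show e'' = algebraMap R'' B'' (γ * δ) from congrArg _ hδ, map_mul, mul_comm, mul_smul, hm,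
              smul_zero]⟩))
        hdvd hd
      rw [← hxd, Ideal.map_mul, Ideal.map_span, Set.image_singleton]
      exact Ideal.mul_mem_mul (Ideal.mem_span_singleton_self _)
        ((‹(p.map (algebraMap R'' B'')).IsPrime›).radical_le_iff.2 hle hx)
    obtain ⟨y, hy, hyγ⟩ := Ideal.mem_span_singleton_mul.1 (hle2 (hγ ▸ Ideal.mem_span_singleton_self γ))
    have h1 : y - 1 = 0 := hγreg _ (by rw [mul_sub, hyγ, mul_one, sub_self])
    exact ‹p.IsPrime›.ne_top ((Ideal.eq_top_iff_one _).2 (sub_eq_zero.1 h1 ▸ hy))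
  obtain ⟨g, hg, y, hy⟩ := GrothLib.Fitting.exists_smul_mem_span r _
    ((GrothLib.Fitting.not_le_iff_finrank_fiber_le r _).1 htop)
  refine ⟨g, r, y, hg, hy, fun z hz i => ?_⟩
  let S := Submonoid.powers g
  let mk := LocalizedModule.mkLinearMap S N
  have hspan := GrothLib.Fitting.span_localized_eq_top S g (Submonoid.mem_powers g) y hy
  have hz' : ∑ i, algebraMap B'' (Localization S) (z i) • mk (y i) = 0 := by
    simp only [algebraMap_smul, ← map_smul, ← map_sum, hz, map_zero]
  have h1 := GrothLib.Fitting.det_mem_minors (L := GrothLib.Fitting.rel (R := Localization S) fun i => mk (y i))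
    (fun _ : Fin 1 => fun i => algebraMap B'' (Localization S) (z i)) (fun _ => i)
    (fun _ => GrothLib.Fitting.mem_rel.2 hz')
  rw [Matrix.det_fin_one, Matrix.of_apply, show 1 = r - (r - 1) by have := i.pos; omega,
    ← GrothLib.Fitting.ideal_eq_minors _ hspan, ideal_localized, hlow (r - 1) (by have := i.pos; omega),
    Ideal.map_bot, Ideal.mem_bot, IsLocalization.map_eq_zero_iff S] at h1
  obtain ⟨⟨_, k, rfl⟩, hk⟩ := h1
  exact ⟨k, hk⟩

end GrothLib.BlowFree1
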