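import Groth.Agent.Lib.BlowFree1.Centre
import Groth.Agent.Lib.Nagata6.ExtendIdeal
import Groth.Agent.Lib.FlatFP.Sheaf
import Groth.Agent.Lib.RelFPSch6.Perm
import Groth.Agent.Lib.Ref1.Frame
import Groth.Agent.Lib.AssPts.Points

/-!
# Ingredients for making a strict transform free near the generic points of the fibres
-/

set_option autoImplicit false
set_option backward.isDefEq.respectTransparency false
universe u

open CategoryTheory CategoryTheory.Limits AlgebraicGeometry Opposite TopologicalSpace GrothLib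

namespace GrothLib.BlowFree1

/-- A compact intersection with an affine open is covered by finitely many basic opens. -/
theorem exists_finset_basicOpen {S : Scheme.{u}} {W : S.Opens} (hW : IsAffineOpen W) (U : S.Opens)
    (hUW : IsCompact ((U ⊓ W : S.Opens) : Set S)) :
    ∃ T : Finset Γ(S, W), (∀ f ∈ T, S.basicOpen f ≤ U) ∧ ∀ x ∈ U, x ∈ W → ∃ f ∈ T, x ∈ S.basicOpen f := by
  classical
  choose f hfU hxf using fun x : ↥(U ⊓ W) => hW.exists_basicOpen_le (V := U) ⟨x.1, x.2.1⟩ x.2.2
  obtain ⟨t, ht⟩ := hUW.elim_finite_subcover (fun x : ↥(U ⊓ W) => (S.basicOpen (f x) : Set S))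
    (fun x => (S.basicOpen (f x)).2) fun x hx => Set.mem_iUnion.2 ⟨⟨x, hx⟩, hxf ⟨x, hx⟩⟩
  refine ⟨t.image f, fun g hg => ?_, fun x hxU hxW => ?_⟩
  · obtain ⟨x, -, rfl⟩ := Finset.mem_image.1 hg
    exact hfU x
  · obtain ⟨y, hy, hxy⟩ := Set.mem_iUnion₂.1 (ht ⟨hxU, hxW⟩)
    exact ⟨f y, Finset.mem_image_of_mem f hy, hxy⟩

/-- An ideal of an affine open which is the unit ideal along `U` extends to an admissible ideal sheaf. -/
theorem exists_admissible_of_ideal {S : Scheme.{u}} [CompactSpace S] [QuasiSeparatedSpace S] (U : S.Opens)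
    (hU : IsCompact (U : Set S)) (W : S.affineOpens) (I : Ideal Γ(S, W.1)) (hI : I.FG) (T : Finset Γ(S, W.1))
    (hT : ∀ x ∈ U, x ∈ W.1 → ∃ f ∈ T, x ∈ S.basicOpen f) (hrad : Ideal.span (T : Set Γ(S, W.1)) ≤ I.radical) :
    ∃ J : S.IdealSheafData, BlowUp.IsAdmissibleFor U J ∧ J.ideal W = I := by
  haveI : IsAffine W.1.toScheme := W.2
  let A := W.1.ι.appLE W.1 ⊤ (by simp)
  have hb : Function.Bijective A.hom := by
    have : IsIso (W.1.ι.app W.1) := W.1.ι.isIso_app _ (by simp)
    have e : (⊤ : W.1.toScheme.Opens) = W.1.ι ⁻¹ᵁ W.1 := by simp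
    have : IsIso A := by
      show IsIso (W.1.ι.appLE W.1 ⊤ _)
      rw [Scheme.Hom.appLE, Subsingleton.elim (homOfLE _).op (eqToHom (congrArg Opposite.op e.symm))]
      infer_instance
    exact ConcreteCategory.bijective_of_isIso A
  let IW : W.1.toScheme.IdealSheafData := Scheme.IdealSheafData.ofIdealTop (I.map A.hom)
  have hIW : BlowUp.IsAdmissibleFor (W.1.ι ⁻¹ᵁ U) IW := by
    refine ⟨fun V => ?_, Set.disjoint_left.2 fun z hz hzU => ?_⟩
    · rw [Scheme.IdealSheafData.ofIdealTop_ideal]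
      exact (hI.map _).map _
    · rw [Scheme.IdealSheafData.coe_support_ofIdealTop, Scheme.mem_zeroLocus_iff] at hz
      obtain ⟨f, hf, hzf⟩ := hT z.1 hzU z.2
      obtain ⟨n, hn⟩ := hrad (Ideal.subset_span hf)
      refine hz (A.hom (f ^ n)) (Ideal.mem_map_of_mem _ hn) ?_
      have hz' : z ∈ (⊤ : W.1.toScheme.Opens) := trivial
      rw [Scheme.mem_basicOpen _ _ _ hz', map_pow, map_pow]
      refine IsUnit.pow _ ?_
      rw [← Scheme.mem_basicOpen _ _ _ hz']
      show z ∈ W.1.toScheme.basicOpen ((W.1.ι.appLE W.1 ⊤ _) f)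
      rw [Scheme.basicOpen_appLE]
      exact ⟨trivial, hzf⟩
  obtain ⟨J, hJ, hJW⟩ := Nagata6.exists_extension U W.1 hU W.2.isCompact IW hIW
  refine ⟨J, hJ, ?_⟩
  have h1 := congrArg (fun K => Scheme.IdealSheafData.ideal K ⟨⊤, isAffineOpen_top W.1.toScheme⟩) hJW
  rw [GrothLib.BlowUp.ideal_comap_eq_map J W.1.ι W ⟨⊤, isAffineOpen_top _⟩ (by simp)] at h1
  simp only [IW, Scheme.IdealSheafData.ofIdealTop_ideal] at h1
  rw [← Ideal.comap_map_of_bijective _ hb (I := J.ideal W), ← Ideal.comap_map_of_bijective _ hb (I := I)]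
  congr 1
  refine h1.trans ?_
  simp
  exact Ideal.map_id _

/-- Stalkwise form of a frame: generators up to `g` whose relations are killed by powers of `g`. -/
theorem bijective_comb {A M A' M' : Type u} [CommRing A] [CommRing A'] [Algebra A A'] [AddCommGroup M] [Module A M]
    [AddCommGroup M'] [Module A M'] [Module A' M'] [IsScalarTower A A' M'] (S : Submonoid A) [IsLocalization S A']
    (ℓ : M →ₗ[A] M') [IsLocalizedModule S ℓ] {g : A} (hg : g ∈ S) {r : ℕ} (y : Fin r → M)
    (hspan : ∀ m, g • m ∈ Submodule.span A (Set.range y))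
    (hrel : ∀ z : Fin r → A, ∑ i, z i • y i = 0 → ∀ i, ∃ k : ℕ, g ^ k * z i = 0) :
    Function.Bijective (Fintype.linearCombination A' fun i => ℓ (y i)) := by
  have hu : ∀ a ∈ S, IsUnit (algebraMap A A' a) := fun a ha => IsLocalization.map_units A' ⟨a, ha⟩
  constructor
  · rw [injective_iff_map_eq_zero]
    intro c hc
    obtain ⟨⟨t, ht⟩, hint⟩ := IsLocalization.exist_integer_multiples_of_finite S c
    choose z hz using hint
    have h1 : ℓ (∑ i, z i • y i) = 0 := by
      rw [map_sum]
      refine (Finset.sum_congr rfl fun i _ => ?_).trans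
        ((Finset.smul_sum (r := algebraMap A A' t) (f := fun i => c i • ℓ (y i)) (s := Finset.univ)).symm.trans ?_)
      · rw [map_smul, ← algebraMap_smul A' (z i), hz i, Algebra.smul_def, mul_smul]
      · rw [← Fintype.linearCombination_apply, hc, smul_zero]
    obtain ⟨⟨u, hu'⟩, hu0⟩ := (IsLocalizedModule.eq_zero_iff S ℓ).1 h1
    rw [Submonoid.smul_def, Finset.smul_sum] at hu0
    simp only [smul_smul] at hu0
    funext i
    obtain ⟨k, hk⟩ := hrel _ hu0 i
    have h2 := congrArg (algebraMap A A') hk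
    rw [map_mul, map_mul, map_zero, ((hu _ (pow_mem hg k))).mul_right_eq_zero, (hu _ hu').mul_right_eq_zero, hz i,
      Algebra.smul_def, (hu _ ht).mul_right_eq_zero] at h2
    exact h2
  · intro m'
    obtain ⟨⟨m, t, ht⟩, hm⟩ := IsLocalizedModule.surj S ℓ m'
    obtain ⟨c, hc⟩ := (Submodule.mem_span_range_iff_exists_fun A).1 (hspan m)
    refine ⟨fun i => IsLocalization.mk' A' (c i) (⟨g * t, mul_mem hg ht⟩ : S), ?_⟩
    refine (hu _ (mul_mem hg ht)).smul_left_cancel.1 ?_
    rw [Fintype.linearCombination_apply, Finset.smul_sum]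
    refine (Finset.sum_congr rfl fun i _ => ?_).trans (?_ : ∑ i, c i • ℓ (y i) = _)
    · rw [← algebraMap_smul A' (c i), smul_smul]
      congr 1
      exact IsLocalization.mk'_spec' A' (c i) (⟨g * t, mul_mem hg ht⟩ : S)
    · simp only [← map_smul, ← map_sum, hc]
      rw [algebraMap_smul, mul_smul, map_smul, ← hm]
      rfl

/-- Free near the basic open of `g`. -/
theorem nonempty_iso_free {X : Scheme.{u}} (G : X.Modules) [G.IsQuasicoherent] {O : X.Opens} (hO : IsAffineOpen O)
    (g : Γ(X, O)) {r : ℕ} (y : Fin r → Γ(G, O)) (hspan : ∀ m : Γ(G, O), g • m ∈ Submodule.span Γ(X, O) (Set.range y))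
    (hrel : ∀ z : Fin r → Γ(X, O), ∑ i, z i • y i = 0 → ∀ i, ∃ k : ℕ, g ^ k * z i = 0) :
    Nonempty (G.restrict (X.basicOpen g).ι ≅ FlatMod.freeMod (X.basicOpen g).toScheme r) := by
  refine FinCov.exists_iso_of_frame (e := fun i => G.presheaf.map (homOfLE (X.basicOpen_le g)).op (y i)) ?_
  refine Ref1.isFrame_of_stalk fun z hz => ?_
  have hzO : z ∈ O := X.basicOpen_le g hz
  letI := X.presheaf.algebra_section_stalk ⟨z, hzO⟩
  haveI := FlatFP.isLocalization_stalk_primeAt hO hzO
  letI : Module Γ(X, O) (G.presheaf.stalk z) := Module.compHom _ (X.presheaf.germ O z hzO).hom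
  haveI : IsScalarTower Γ(X, O) (X.presheaf.stalk z) (G.presheaf.stalk z) :=
    IsScalarTower.of_algebraMap_smul fun _ _ => rfl
  obtain ⟨ℓ, hℓ, hℓ'⟩ := FlatFP.isLocalizedModule_germ G hO hzO
  haveI := hℓ
  have hg : g ∈ (WeakAss.primeAt z hzO).primeCompl := fun h =>
    (IsLocalRing.mem_maximalIdeal _).1 (show X.presheaf.germ O z hzO g ∈ IsLocalRing.maximalIdeal _ from h)
      ((Scheme.mem_basicOpen _ _ _ hzO).1 hz)
  have H := bijective_comb (WeakAss.primeAt z hzO).primeCompl ℓ (A' := X.presheaf.stalk z) hg y hspan hrel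
  have heq : Ref1.stalkComb (F := G) (fun i => G.presheaf.map (homOfLE (X.basicOpen_le g)).op (y i)) z hz =
      Fintype.linearCombination (X.presheaf.stalk z) fun i => ℓ (y i) := by
    unfold Ref1.stalkComb
    congr 1
    funext i
    rw [hℓ', TopCat.Presheaf.germ_res_apply]
  rw [heq]
  exact H

/-- Sections over a basic open inside `U` form a finitely presented localisation. -/
theorem exists_fp_localization {X : Scheme.{u}} (F : X.Modules) [F.IsQuasicoherent] (U : X.Opens)
    (hfp : CohB1.IsFP ((Scheme.Modules.pullback U.ι).obj F)) {O : X.Opens} (hO : IsAffineOpen O) (g : Γ(X, O))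
    (hg : X.basicOpen g ≤ U) :
    ∃ (A N : Type u) (_ : CommRing A) (_ : Algebra Γ(X, O) A) (_ : IsLocalization.Away g A)
      (_ : AddCommGroup N) (_ : Module A N) (_ : Module Γ(X, O) N) (_ : IsScalarTower Γ(X, O) A N)
      (l : Γ(F, O) →ₗ[Γ(X, O)] N), IsLocalizedModule (Submonoid.powers g) l ∧ Module.FinitePresentation A N := by
  let D := X.basicOpen g
  have hD : IsAffineOpen D := hO.basicOpen g
  let P := U.ι ⁻¹ᵁ D
  have hP : IsAffineOpen P := hD.preimage_of_isOpenImmersion U.ι (by simpa [D] using hg)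
  have hFP : Module.FinitePresentation Γ(X, D) Γ(F, D) := by
    haveI hN := FlatFP.finitePresentation_sections ((Scheme.Modules.pullback U.ι).obj F) hfp hP
    letI : Algebra Γ(X, D) Γ(U.toScheme, P) := (U.ι.appLE D P le_rfl).hom.toAlgebra
    letI : Module Γ(X, D) Γ((Scheme.Modules.pullback U.ι).obj F, P) :=
      Module.compHom _ (U.ι.appLE D P le_rfl).hom
    haveI : IsScalarTower Γ(X, D) Γ(U.toScheme, P) Γ((Scheme.Modules.pullback U.ι).obj F, P) :=
      IsScalarTower.of_algebraMap_smul fun _ _ => rfl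
    obtain ⟨l, hl⟩ := RelFPSch6.exists_isBaseChange_pullback U.ι F hD hP le_rfl rfl
    have hb : Function.Bijective (algebraMap Γ(X, D) Γ(U.toScheme, P)) := by
      show Function.Bijective (U.ι.appLE D P le_rfl).hom
      rw [Scheme.Hom.appLE_eq_app]
      haveI : IsIso (U.ι.app D) := U.ι.isIso_app _ (by simpa [D] using hg)
      exact ConcreteCategory.bijective_of_isIso _
    let φ := AlgEquiv.ofBijective (Algebra.ofId Γ(X, D) Γ(U.toScheme, P)) hb
    haveI : Module.FinitePresentation Γ(X, D) Γ(U.toScheme, P) :=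
      Module.finitePresentation_of_surjective φ.toLinearMap φ.surjective
        (by rw [LinearMap.ker_eq_bot.2 φ.injective]; exact Submodule.fg_bot)
    haveI := Module.FinitePresentation.trans Γ(X, D) Γ((Scheme.Modules.pullback U.ι).obj F, P) Γ(U.toScheme, P)
    have hlb : Function.Bijective l := by
      have e : l = hl.equiv.toLinearMap.restrictScalars Γ(X, D) ∘ₗ
          ((TensorProduct.lid Γ(X, D) Γ(F, D)).symm.trans
            (TensorProduct.congr φ.toLinearEquiv (LinearEquiv.refl _ _))).toLinearMap := by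
        ext m
        simp [IsBaseChange.equiv_tmul]
      rw [e]
      exact hl.equiv.bijective.comp (LinearEquiv.bijective _)
    exact Module.FinitePresentation.of_equiv (LinearEquiv.ofBijective l hlb).symm
  letI : Algebra Γ(X, O) Γ(X, D) := (X.presheaf.map (homOfLE (X.basicOpen_le g)).op).hom.toAlgebra
  haveI : IsLocalization.Away g Γ(X, D) := hO.isLocalization_basicOpen g
  letI : Module Γ(X, O) Γ(F, D) := Module.compHom _ (X.presheaf.map (homOfLE (X.basicOpen_le g)).op).hom
  haveI : IsScalarTower Γ(X, O) Γ(X, D) Γ(F, D) := IsScalarTower.of_algebraMap_smul fun _ _ => rfl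
  let ϕ : Γ(F, O) →ₗ[Γ(X, O)] Γ(F, D) :=
    { toFun := F.presheaf.map (homOfLE (X.basicOpen_le g)).op
      map_add' := map_add _
      map_smul' := fun a z => Scheme.Modules.map_smul F (homOfLE (X.basicOpen_le g)) a z }
  have : IsLocalizedModule (Submonoid.powers g) ϕ := by
    obtain ⟨hl, hsep⟩ := QCoh.smulLift_and_smulSep_of_isAffineOpen hO F g
    refine IsLocalizedModule.Away.mk_of_addCommGroup ?_ (fun z => ?_) (fun z hz => hsep z hz)
    · have hu : IsUnit (algebraMap Γ(X, O) Γ(X, D) g) := IsLocalization.Away.algebraMap_isUnit g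
      rw [Module.End.isUnit_iff]
      exact ⟨fun a b hab => hu.smul_left_cancel.mp hab,
        fun a => ⟨(↑hu.unit⁻¹ : Γ(X, D)) • a, by
          show algebraMap Γ(X, O) Γ(X, D) g • (↑hu.unit⁻¹ : Γ(X, D)) • a = a
          rw [smul_smul, hu.mul_val_inv, one_smul]⟩⟩
    · obtain ⟨n, t, ht⟩ := hl z
      refine ⟨n, t, ?_⟩
      show algebraMap Γ(X, O) Γ(X, D) (g ^ n) • z = _
      rw [map_pow]
      exact ht.symm
  exact ⟨Γ(X, D), Γ(F, D), inferInstance, inferInstance, inferInstance, inferInstance, inferInstance, inferInstance,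
    inferInstance, ϕ, this, hFP⟩

end GrothLib.BlowFree1
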